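import Cfsg.Agent.BpExc.FamTwSix
import Cfsg.Agent.BpExc.EmbInst
import Cfsg.Agent.BpExc.AsmN_m3
import Cfsg.Agent.S1049
import Cfsg.Agent.FastGrp
import Cfsg.Agent.Prune
set_option linter.all false
prune_inst 0x7f00000000000000000000000000000000000000000000000000000000000000000000000000000000000000000000000000000000000000000000000000000000000000000000000000000000000000003fffffffffffffffffffffffffffbeffbdffffffff
open scoped Cfsg.Agent.FastGrp

/-!
# `²E₆(q)` inside `E₆(k)` (helper522)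

Copy of the sections FamTwCent, FamTwLong, FamTwFr, FamTwSixFam of `BpTab/Final` (helper33), under new names.
-/

-- merged: Cfsg.Agent.BpExc.FamTwCent
section

/-!
# Elements commuting with a regular unipotent element (S1332-EXC (i2), helper33)

`D` in the list, `F` any field.
* `Co i u s` : `u ∈ U_i x_{p_i}(s)`, the coordinate of `u ∈ U` at the simple root `p_i`;
* `mem_borel_of_comm` : `g ∈ D.group F` commuting with `u ∈ U` all of whose simple coordinates are not zero: `g ∈ B`;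
* `mem_diagonal_of_comm` : if `g` also commutes with some `n ∈ N` with `n V n⁻¹ ≤ U`: `g ∈ T`;
* `eq_one_of_comm` : then `g = 1`.
-/

set_option autoImplicit false
set_option maxHeartbeats 400000

namespace Cfsg.Agent.H522.FamTw.Cent

open Cfsg.Lie Cfsg.Agent.ChevalleyStructure Cfsg.Agent.ChevalleyStructure.Elts
  Cfsg.Agent.ChevalleyStructure.BruhatSplit Cfsg.Agent.ChevalleyStructure.RootWord Cfsg.Agent.BpExc.FixNorm

universe u

variable {D : ChevalleyDatum} (hD : InList D) {F : Type u} [Field F]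

/-- the coordinate at the simple root `i` modulo `U_i` -/
def Co (i : ℕ) (u : GL D.Idx F) (s : F) : Prop := ∃ v ∈ Ui F D i, u = v * xG hD (D.simple i) s

section

include hD

theorem Ui_conj {i : ℕ} (hi : i < D.rank) {x v : GL D.Idx F} (hx : x ∈ D.rootSubgroup F (D.simple i))
    (hv : v ∈ Ui F D i) : x * v * x⁻¹ ∈ Ui F D i := by
  obtain ⟨h1, -⟩ := Cfsg.Agent.S1045.result (F := F) D hD i hi
  exact (Subgroup.mem_normalizer_iff.1 (h1 (Subgroup.mem_sup_left hx)) v).1 hv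

theorem Ui_inf {i : ℕ} (hi : i < D.rank) {x : GL D.Idx F} (hx : x ∈ D.rootSubgroup F (D.simple i))
    (hv : x ∈ Ui F D i) : x = 1 := by
  have G := RootComb.good_of_mem hD
  have h1 : nG hD (D.simple i) 1 * x * (nG hD (D.simple i) 1)⁻¹ ∈ D.posUnipotent F :=
    Ui_le i (nG_conj_Ui hD hi hv)
  have h2 : nG hD (D.simple i) 1 * x * (nG hD (D.simple i) 1)⁻¹ ∈ D.negUnipotent F := by
    have h3 := Subgroup.mem_map_of_mem (MulAut.conj (nG hD (D.simple i) (1 : F))).toMonoidHom hx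
    rw [acts_nG_simple hD hi _ (G.simple_lt hi), wact_cons, wact_nil, G.reflect_simple hi] at h3
    exact rootSubgroup_le_neg hD ((isNegRoot_neg G (G.simple_lt hi)).2 (G.simple_pos hi)) h3
  have h3 := eq_one_of_pos_of_neg hD h1 h2
  rwa [conj_eq_one_iff] at h3

end

variable {hD}

theorem Co.mul {i : ℕ} (hi : i < D.rank) {u u' : GL D.Idx F} {s s' : F} (h : Co hD i u s) (h' : Co hD i u' s') :
    Co hD i (u * u') (s + s') := by
  obtain ⟨v, hv, rfl⟩ := h
  obtain ⟨v', hv', rfl⟩ := h'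
  refine ⟨v * (xG hD (D.simple i) s * v' * (xG hD (D.simple i) s)⁻¹),
    mul_mem hv (Ui_conj hD hi (xG_mem_rootSubgroup hD _ _) hv'), ?_⟩
  rw [← xG_add]
  group

theorem Co.inv {i : ℕ} (hi : i < D.rank) {u : GL D.Idx F} {s : F} (h : Co hD i u s) : Co hD i u⁻¹ (-s) := by
  obtain ⟨v, hv, rfl⟩ := h
  refine ⟨xG hD (D.simple i) (-s) * v⁻¹ * (xG hD (D.simple i) (-s))⁻¹,
    Ui_conj hD hi (xG_mem_rootSubgroup hD _ _) (inv_mem hv), ?_⟩
  rw [← xG_inv]
  group

theorem Co.unique {i : ℕ} (hi : i < D.rank) {u : GL D.Idx F} {s s' : F} (h : Co hD i u s) (h' : Co hD i u s') :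
    s = s' := by
  obtain ⟨v, hv, rfl⟩ := h
  obtain ⟨v', hv', e⟩ := h'
  have h1 : v'⁻¹ * v = xG hD (D.simple i) (s' + -s) := by
    have : v'⁻¹ * v = v'⁻¹ * (v * xG hD (D.simple i) s) * (xG hD (D.simple i) s)⁻¹ := by group
    rw [this, e, xG_inv, ← xG_add]
    group
  have h2 := Ui_inf hD hi (x := v'⁻¹ * v) (by rw [h1]; exact xG_mem_rootSubgroup hD _ _) (mul_mem (inv_mem hv') hv)
  rw [h1, xG_eq_one_iff hD ((RootComb.good_of_mem hD).simple_lt hi), ← sub_eq_add_neg, sub_eq_zero] at h2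
  exact h2.symm

theorem exists_co {i : ℕ} (hi : i < D.rank) {u : GL D.Idx F} (hu : u ∈ D.posUnipotent F) : ∃ s, Co hD i u s := by
  obtain ⟨v, hv, x, hx, rfl⟩ := exists_Ui_mul hD hi hu
  obtain ⟨s, rfl⟩ := (mem_rootSubgroup_iff hD _ _).1 hx
  exact ⟨s, v, hv, rfl⟩

theorem Co.conj {i : ℕ} (hi : i < D.rank) {u v : GL D.Idx F} {s : F} (h : Co hD i u s)
    (hv : v ∈ D.posUnipotent F) : Co hD i (v * u * v⁻¹) s := by
  obtain ⟨s', h'⟩ := exists_co (hD := hD) hi hv
  have := (h'.mul hi h).mul hi (h'.inv hi)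
  rwa [add_neg_cancel_comm] at this

theorem co_one {i : ℕ} : Co hD i (1 : GL D.Idx F) 0 := ⟨1, one_mem _, by rw [xG_zero, mul_one]⟩

theorem co_self (i : ℕ) (t : F) : Co hD i (xG hD (D.simple i) t) t := ⟨1, one_mem _, by rw [one_mul]⟩

theorem co_ne {i r : ℕ} (hr : D.IsPosRoot r) (h : r ≠ D.simple i) (t : F) : Co hD i (xG hD r t) 0 :=
  ⟨xG hD r t, Subgroup.subset_closure ⟨r, t, hr, h, coe_xG hD r t⟩, by rw [xG_zero, mul_one]⟩

/-- the simple coordinates of a word -/
theorem co_word {i : ℕ} (hi : i < D.rank) (w : List (ℕ × F)) (hw : ∀ q ∈ w, D.IsPosRoot q.1) :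
    Co hD i (wordG hD w) ((w.map fun q => if q.1 = D.simple i then q.2 else 0).sum) := by
  induction w with
  | nil => exact co_one
  | cons q w ih =>
    rw [wordG_cons, List.map_cons, List.sum_cons]
    refine Co.mul hi ?_ (ih fun q' hq' => hw q' (List.mem_cons_of_mem _ hq'))
    split_ifs with h
    · rw [h]
      exact co_self i _
    · exact co_ne (hw q List.mem_cons_self) h _

/-- `a ∈ U ∩ m⁻¹ U m` and `m X_{p_i} m⁻¹ ≤ V`: the coordinate of `a` at `i` is zero. -/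
theorem Co.eq_zero {i : ℕ} (hi : i < D.rank) {m a : GL D.Idx F} (hm : m ∈ D.monomialSubgroup F)
    (hX : (D.rootSubgroup F (D.simple i)).map (MulAut.conj m).toMonoidHom ≤ D.negUnipotent F)
    {s : F} (ha : Co hD i a s) (hma : m * a * m⁻¹ ∈ D.posUnipotent F) : s = 0 := by
  have G := RootComb.good_of_mem hD
  obtain ⟨v, hv, rfl⟩ := ha
  set n : GL D.Idx F := nG hD (D.simple i) 1 with hn
  have hnN : n ∈ D.monomialSubgroup F := nG_one_mem_monomial hD (G.simple_lt hi)
  -- `m = m' n`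
  obtain ⟨a1, ha1, c1, hc1, e, h1⟩ := split hD (n := m * n⁻¹) (mul_mem hm (inv_mem hnN)) (Ui_le i (nG_conj_Ui hD hi hv))
  have h2 := Um_conj_mem hc1
  have h3 : m * xG hD (D.simple i) s * m⁻¹ ∈ D.negUnipotent F :=
    hX (Subgroup.mem_map_of_mem _ (xG_mem_rootSubgroup hD _ s))
  have h4 : m * (v * xG hD (D.simple i) s) * m⁻¹ =
      (m * n⁻¹ * a1 * (m * n⁻¹)⁻¹) * ((m * n⁻¹ * c1 * (m * n⁻¹)⁻¹) * (m * xG hD (D.simple i) s * m⁻¹)) := by
    have : n * v * n⁻¹ = a1 * c1 := e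
    calc m * (v * xG hD (D.simple i) s) * m⁻¹
        = m * n⁻¹ * (n * v * n⁻¹) * (m * n⁻¹)⁻¹ * (m * xG hD (D.simple i) s * m⁻¹) := by group
      _ = _ := by rw [this]; group
  have h5 : (m * n⁻¹ * c1 * (m * n⁻¹)⁻¹) * (m * xG hD (D.simple i) s * m⁻¹) ∈ D.posUnipotent F := by
    have h6 := mul_mem (inv_mem h1) hma
    rw [h4, inv_mul_cancel_left] at h6
    exact h6
  have h6 := eq_one_of_pos_of_neg hD h5 (mul_mem h2 h3)
  -- `n x n⁻¹ = c1⁻¹`
  have h7 : n * xG hD (D.simple i) s * n⁻¹ = c1⁻¹ := by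
    have h8 : c1 * (n * xG hD (D.simple i) s * n⁻¹) = (m * n⁻¹)⁻¹ * ((m * n⁻¹ * c1 * (m * n⁻¹)⁻¹) *
        (m * xG hD (D.simple i) s * m⁻¹)) * (m * n⁻¹) := by group
    rw [h6, mul_one, inv_mul_cancel] at h8
    exact eq_inv_of_mul_eq_one_right h8
  have h8 : n * xG hD (D.simple i) s * n⁻¹ ∈ D.posUnipotent F := by
    rw [h7]
    exact inv_mem (Um_le _ hc1)
  have h9 : n * xG hD (D.simple i) s * n⁻¹ ∈ D.negUnipotent F := by
    have h3 := Subgroup.mem_map_of_mem (MulAut.conj n).toMonoidHom (xG_mem_rootSubgroup hD (D.simple i) s)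
    rw [acts_nG_simple hD hi _ (G.simple_lt hi), wact_cons, wact_nil, G.reflect_simple hi] at h3
    exact rootSubgroup_le_neg hD ((isNegRoot_neg G (G.simple_lt hi)).2 (G.simple_pos hi)) h3
  have h10 := eq_one_of_pos_of_neg hD h8 h9
  rw [conj_eq_one_iff, xG_eq_one_iff hD (G.simple_lt hi)] at h10
  exact h10

variable (hD)

section

include hD

/-- An element of `N` keeping all simple root subgroups in `U` is in `T`. -/
theorem mem_diagonal_of_pos {m : GL D.Idx F} (hm : m ∈ D.monomialSubgroup F)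
    (h : ∀ i < D.rank, ¬ (D.rootSubgroup F (D.simple i)).map (MulAut.conj m).toMonoidHom ≤ D.negUnipotent F) :
    m ∈ D.diagonalSubgroup F := by
  have G := RootComb.good_of_mem hD
  obtain ⟨w, hw, hact⟩ := exists_acts hD hm
  have hpos : ∀ r, D.IsPosRoot r → D.IsPosRoot (wact D w r) := by
    intro r hr
    refine wact_pos_of_simple G hw (fun i hi => ?_) hr
    rcases pos_or_neg G (wact_lt G hw (G.simple_lt hi)) with h1 | h1
    · exact h1
    · exact absurd (map_le_of_neg hD hact (G.simple_lt hi) h1) (h i hi)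
  have hwr : ∀ a ∈ w.reverse, a < D.rank := fun a ha => hw a (by simpa using ha)
  have hpos' : ∀ r, D.IsPosRoot r → D.IsPosRoot (wact D w.reverse r) := by
    intro r hr
    rcases pos_or_neg G (wact_lt G hwr hr.1) with h1 | h1
    · exact h1
    · exfalso
      have h2 := hpos _ ((isPosRoot_neg G (wact_lt G hwr hr.1)).2 h1)
      rw [wact_neg G hw (wact_lt G hwr hr.1), wact_reverse' G hw hr.1, isPosRoot_neg G hr.1] at h2
      exact not_pos_of_neg G h2 hr
  have key : ∀ {g : GL D.Idx F} {w : List ℕ}, BruhatSplit.Acts g w → (∀ r, D.IsPosRoot r → D.IsPosRoot (wact D w r)) →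
      ∀ u ∈ D.posUnipotent F, g * u * g⁻¹ ∈ D.posUnipotent F := by
    intro g w hg hp u hu
    have h1 : D.posUnipotent F ≤ (D.posUnipotent F).comap (MulAut.conj g).toMonoidHom := by
      rw [posUnipotent_le_iff hD]
      intro r hr t
      have h2 := Subgroup.mem_map_of_mem (MulAut.conj g).toMonoidHom (xG_mem_rootSubgroup hD r t)
      rw [hg r hr.1] at h2
      exact rootSubgroup_le_pos hD (hp r hr) h2
    exact h1 hu
  have hmN : m ∈ Subgroup.normalizer (D.posUnipotent F : Set (GL D.Idx F)) := by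
    rw [Subgroup.mem_normalizer_iff]
    intro u
    refine ⟨fun hu => key hact hpos u hu, fun hu => ?_⟩
    have h1 := key (BruhatSplit.Acts.inv G hact hw) hpos' _ hu
    have h2 : m⁻¹ * (m * u * m⁻¹) * m⁻¹⁻¹ = u := by group
    rwa [h2] at h1
  have hU : D.unipotentRadical F ∅ = D.posUnipotent F := by
    apply le_antisymm
    · refine (Subgroup.closure_le _).2 ?_
      rintro x ⟨r, t, hr, -, hx⟩
      exact Subgroup.subset_closure ⟨r, t, hr, hx⟩
    · rw [posUnipotent_le_iff hD]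
      intro r hr t
      refine Subgroup.subset_closure ⟨r, t, hr, ?_, coe_xG hD r t⟩
      rintro ⟨-, h1⟩
      obtain ⟨j, hj, h2⟩ := G.co_ne_zero hr.1
      exact h2 (h1 j hj (Set.notMem_empty j))
  have hB : D.parabolicSubgroup F ∅ = D.borelSubgroup F := by
    have : {g : GL D.Idx F | ∃ j ∈ (∅ : Set ℕ), j < D.rank ∧ (g : Matrix D.Idx D.Idx F) = D.nMat F (D.simple j) 1} = ∅ := by
      ext g
      constructor
      · rintro ⟨j, hj, -⟩
        exact hj
      · intro h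
        exact absurd h (Set.notMem_empty g)
    show D.borelSubgroup F ⊔ Subgroup.closure _ = _
    rw [this, Subgroup.closure_empty, sup_bot_eq]
  have h1 : m ∈ D.borelSubgroup F := by
    rw [← hB, ← Cfsg.Agent.S1049.result (F := F) D hD ∅ (fun j hj => absurd hj (Set.notMem_empty j)), hU]
    exact ⟨hmN, monomial_le_group hD F hm⟩
  rw [← (Cfsg.Agent.S1040.result (F := F) D hD).2]
  exact ⟨h1, hm⟩

/-- **Elements commuting with a regular unipotent element.** -/
theorem mem_borel_of_comm {g u : GL D.Idx F} (hg : g ∈ D.group F) (hu : u ∈ D.posUnipotent F)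
    (hreg : ∀ i < D.rank, ∃ s, Co hD i u s ∧ s ≠ 0) (hc : g * u = u * g) : g ∈ D.borelSubgroup F := by
  obtain ⟨a, ha, m, hm, v, hv, rfl, hmv⟩ := exists_form hD hg
  -- `v u = b c`
  obtain ⟨b, hb, c, hc1, e, hmb⟩ := split hD hm (mul_mem hv hu)
  have h1 : (a * (m * b * m⁻¹)) * m * c = (u * a) * m * v := by
    calc (a * (m * b * m⁻¹)) * m * c = a * m * (b * c) := by group
      _ = a * m * (v * u) := by rw [e]
      _ = a * m * v * u := by group
      _ = u * (a * m * v) := hc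
      _ = _ := by group
  obtain ⟨-, -, h2⟩ := form_unique hD (mul_mem ha hmb) hm (Um_le _ hc1) (Um_conj_mem hc1) (mul_mem hu ha) hm hv hmv h1
  have h3 : m * (v * u * v⁻¹) * m⁻¹ ∈ D.posUnipotent F := by
    have : v * u * v⁻¹ = b := by rw [e, h2, mul_inv_cancel_right]
    rwa [this]
  have hmT : m ∈ D.diagonalSubgroup F := by
    refine mem_diagonal_of_pos hD hm fun i hi hX => ?_
    obtain ⟨s, hs, hs0⟩ := hreg i hi
    exact hs0 ((hs.conj hi hv).eq_zero hi hm hX h3)
  have hUB : D.posUnipotent F ≤ D.borelSubgroup F := le_sup_left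
  have hTB : D.diagonalSubgroup F ≤ D.borelSubgroup F := le_sup_right
  exact mul_mem (mul_mem (hUB ha) (hTB hmT)) (hUB hv)

theorem conj_pos_le_neg {n : GL D.Idx F} (hn : n ∈ D.monomialSubgroup F)
    (h : ∀ v ∈ D.negUnipotent F, n * v * n⁻¹ ∈ D.posUnipotent F) {u : GL D.Idx F} (hu : u ∈ D.posUnipotent F) :
    n * u * n⁻¹ ∈ D.negUnipotent F := by
  have G := RootComb.good_of_mem hD
  obtain ⟨w, hw, hact⟩ := exists_acts hD hn
  have h1 : D.posUnipotent F ≤ (D.negUnipotent F).comap (MulAut.conj n).toMonoidHom := by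
    rw [posUnipotent_le_iff hD]
    intro r hr t
    have h2 := Subgroup.mem_map_of_mem (MulAut.conj n).toMonoidHom (xG_mem_rootSubgroup hD r t)
    rw [hact r hr.1] at h2
    refine rootSubgroup_le_neg hD ?_ h2
    have h3 : D.IsNegRoot (D.neg r) := (isNegRoot_neg G hr.1).2 hr
    have h4 := h _ (xG_mem_negUnipotent hD h3 (1 : F))
    have h5 := Subgroup.mem_map_of_mem (MulAut.conj n).toMonoidHom (xG_mem_rootSubgroup hD (D.neg r) (1 : F))
    rw [hact _ h3.1, wact_neg G hw hr.1] at h5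
    rcases pos_or_neg G (wact_lt G hw hr.1) with h6 | h6
    · exfalso
      have h7 := rootSubgroup_le_neg hD ((isNegRoot_neg G (wact_lt G hw hr.1)).2 h6) h5
      have h8 := eq_one_of_pos_of_neg hD h4 h7
      rw [conj_eq_one_iff, xG_eq_one_iff hD h3.1] at h8
      exact one_ne_zero h8
    · exact h6
  exact h1 hu

/-- **... and with a representative of the longest element.** -/
theorem mem_diagonal_of_comm {g u n : GL D.Idx F} (hg : g ∈ D.group F) (hu : u ∈ D.posUnipotent F)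
    (hreg : ∀ i < D.rank, ∃ s, Co hD i u s ∧ s ≠ 0) (hc : g * u = u * g) (hn : n ∈ D.monomialSubgroup F)
    (h : ∀ v ∈ D.negUnipotent F, n * v * n⁻¹ ∈ D.posUnipotent F) (hgn : g * n = n * g) :
    g ∈ D.diagonalSubgroup F := by
  have h1 := mem_borel_of_comm hD hg hu hreg hc
  have h2 : g ∈ D.negUnipotent F ⊔ D.diagonalSubgroup F := by
    obtain ⟨a, ha, t, ht, e⟩ := (mem_borel_iff hD).1 h1
    have h3 : g = (n * a * n⁻¹) * (n * t * n⁻¹) := by
      have : n * g * n⁻¹ = g := by rw [← hgn, mul_inv_cancel_right]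
      rw [← this, e]
      group
    rw [h3]
    exact mul_mem (Subgroup.mem_sup_left (conj_pos_le_neg hD hn h ha)) (Subgroup.mem_sup_right (mono_norm hD hn ht))
  rw [← (Cfsg.Agent.S1037.result (F := F) D hD).2]
  exact ⟨h1, h2⟩

end

variable {hD} in
theorem Co.diag {i : ℕ} {u h : GL D.Idx F} {s c : F} (hs : Co hD i u s)
    (hh : h ∈ D.diagonalSubgroup F) (hc : ∀ t, h * xG hD (D.simple i) t * h⁻¹ = xG hD (D.simple i) (c * t)) :
    Co hD i (h * u * h⁻¹) (c * s) := by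
  obtain ⟨v, hv, rfl⟩ := hs
  have h1 : Ui F D i ≤ (Ui F D i).comap (MulAut.conj h).toMonoidHom := by
    refine (Subgroup.closure_le _).2 ?_
    rintro x ⟨r, t, hr, hne, hx⟩
    obtain ⟨d, -, hd⟩ := BNChev.diagonal_conj hD hh hr.1
    have e : x = xG hD r t := (eq_xG_iff hD x r t).2 hx
    rw [e]
    show h * xG hD r t * h⁻¹ ∈ Ui F D i
    rw [hd t]
    exact Subgroup.subset_closure ⟨r, d * t, hr, hne, coe_xG hD r _⟩
  exact ⟨h * v * h⁻¹, h1 hv, by rw [← hc]; group⟩

/-- **The centralizer.** -/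
theorem eq_one_of_comm {l : ℕ} {M : CoxeterMatrix (Fin l)} (hp : Cfsg.Agent.Nodes.RGDChev.IsType D l M)
    {g u n : GL D.Idx F} (hg : g ∈ D.group F) (hu : u ∈ D.posUnipotent F)
    (hreg : ∀ i < D.rank, ∃ s, Co hp.inList i u s ∧ s ≠ 0) (hc : g * u = u * g) (hn : n ∈ D.monomialSubgroup F)
    (h : ∀ v ∈ D.negUnipotent F, n * v * n⁻¹ ∈ D.posUnipotent F) (hgn : g * n = n * g) : g = 1 := by
  have hgT := mem_diagonal_of_comm hp.inList hg hu hreg hc hn h hgn
  refine Cfsg.Agent.BpExc.FamTw.Tor.faithful hp hgT fun i => ?_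
  have G := RootComb.good_of_mem hp.inList
  have hi : (i : ℕ) < D.rank := by rw [hp.rank_eq]; exact i.2
  obtain ⟨c, -, e⟩ := BNChev.diagonal_conj hp.inList hgT (G.simple_lt hi)
  obtain ⟨s, hs, hs0⟩ := hreg i hi
  have h1 := hs.diag hgT e
  rw [hc, mul_inv_cancel_right] at h1
  have h2 := h1.unique hi hs
  have h3 : c = 1 := by
    have h4 : c * s = 1 * s := by rw [one_mul]; exact h2
    exact mul_right_cancel₀ hs0 h4
  rw [e, h3, one_mul]

end Cfsg.Agent.H522.FamTw.Cent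

end

-- merged: Cfsg.Agent.BpExc.FamTwLong
section

/-!
# A monomial representative of the longest element in a twisted group (S1332-EXC, helper33)

`exists_long` of `EmbTw` (helper95) with the additional information that the element is monomial.
-/

set_option autoImplicit false
set_option maxHeartbeats 400000
set_option linter.unusedSectionVars false
set_option linter.unusedVariables false

namespace Cfsg.Agent.H522.FamTw.Long

open CoxeterSystem Cfsg.Agent.ChevalleyStructure.CoxeterGeom Cfsg.Agent.Tits.Roots Cfsg.Agent.Tits.Core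
  Cfsg.Agent.Nodes.Reps Cfsg.Agent.Nodes.BNOf
  Cfsg.Agent.Nodes.RGDTwGen Cfsg.Agent.Nodes.RGDChev Cfsg.Agent.Nodes.RGDFold
open Cfsg.Lie Cfsg.Agent.ChevalleyStructure Cfsg.Agent.ChevalleyStructure.Elts
  Cfsg.Agent.ChevalleyStructure.TwistedU Cfsg.Agent.ChevalleyStructure.TwistedFix
  Cfsg.Agent.ChevalleyStructure.TwistedFixOrbit
open Cfsg.Agent.GpExc.Field Cfsg.Agent.BpExc.FixNorm Cfsg.Agent.BpExc.Emb Cfsg.Agent.BpExc.EmbTw

universe u v

variable {D : ChevalleyDatum} {l m : ℕ} {M' : CoxeterMatrix (Fin l)} {hp : IsType D l M'}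
  {M : CoxeterMatrix (Fin m)} {A : Fin m → Fin m → ℤ} (h : IsCartan M A)
  {J : Fin m → List (Fin l)} {L : List (List ℕ)}
  {F : Type u} [Field F] [Finite F] {k : Type v} [Field k] {f : F →+* k}
  {σ0 : GL D.Idx F →* GL D.Idx F} {ρ ρ' : ℕ → ℕ} {fF : ℕ → F → F} {G : Subgroup (GL D.Idx F)}

/-- **A monomial representative of the relative longest element.** -/
theorem exists_long_mono (FD : FoldData D M A J L) (FG : FoldGrp hp F J L σ0 ρ ρ' fF G) (f : F →+* k)
    (h : IsCartan M A) : ∃ g ∈ G, glMap D f g ∈ D.monomialSubgroup k ∧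
      ∀ v ∈ D.negUnipotent k, glMap D f g * v * (glMap D f g)⁻¹ ∈ D.posUnipotent k := by
  have : Finite M.Group := finite_W (hp := hp) M.toCoxeterSystem h FD
  obtain ⟨w0, hw0⟩ := RGD.exists_inv_eq_pos (cs := M.toCoxeterSystem) (h := h)
  obtain ⟨ω, hω⟩ := M.toCoxeterSystem.wordProd_surjective w0⁻¹
  refine ⟨(ω.map fun i => nI hp F (J i)).prod, Subgroup.list_prod_mem _ fun g hg => ?_, ?_, ?_⟩
  · obtain ⟨i, -, rfl⟩ := List.mem_map.1 hg
    exact FG.nG i
  · refine glMap_mono hp.inList f (Subgroup.list_prod_mem _ fun g hg => ?_)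
    obtain ⟨i, -, rfl⟩ := List.mem_map.1 hg
    exact nI_mem hp F (J i)
  · intro v hv
    have e : glMap D f (ω.map fun i => nI hp F (J i)).prod = (ω.map fun i => nI hp k (J i)).prod := by
      rw [map_list_prod, List.map_map]
      congr 1
      refine List.map_congr_left fun i _ => ?_
      exact glMap_nI i
    rw [e]
    have h1 : D.negUnipotent k ≤ (D.posUnipotent k).comap
        (MulAut.conj ((ω.map fun i => nI hp k (J i)).prod)).toMonoidHom := by
      rw [negUnipotent_le_iff hp.inList]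
      intro r hr t
      obtain ⟨s, hs, hV, hcj⟩ := conj_wordProd h (hp := hp) (k := k) FD ω r hr.1
      have h2 : (ω.map fun i => nI hp k (J i)).prod * xG hp.inList r t * ((ω.map fun i => nI hp k (J i)).prod)⁻¹ ∈
          D.rootSubgroup k s := by
        rw [← hcj, conj_mem_cj]
        exact xG_mem_rootSubgroup hp.inList r t
      obtain ⟨c, hc⟩ := (mem_rootSubgroup_iff hp.inList _ _).1 h2
      rw [Subgroup.mem_comap]
      show (ω.map fun i => nI hp k (J i)).prod * xG hp.inList r t * ((ω.map fun i => nI hp k (J i)).prod)⁻¹ ∈ _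
      rw [hc]
      refine xG_mem_posUnipotent hp.inList ?_ c
      have hneg : D.neg r ∈ L.flatten := by
        rcases FD.negL r hr.1 with h3 | h3
        · exfalso
          have h4 := (RootComb.good_of_mem hp.inList).isPosRoot_iff.1 (FD.isPos r h3)
          have h5 := (RootComb.good_of_mem hp.inList).isNegRoot_iff.1 hr
          omega
        · exact h3
      have hVneg : IsRoot M.toCoxeterSystem h (V D J (D.neg r)) ∧ 0 ≤ V D J (D.neg r) := by
        refine ⟨(FD.isRoot_iff hp.checked (fun i r hr => wp_lt hp (J i) hr) _).2 ⟨_, FD.ltL hneg, rfl⟩, ?_⟩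
        intro i
        exact (FD.posL _ (FD.ltL hneg)).1 hneg i
      have h6 : V D J (D.neg r) ∈ RGD.Inv M.toCoxeterSystem h w0 := by
        rw [hw0]; exact hVneg
      have h7 := h6.2.2
      rw [V_neg hp.checked hr.1, map_neg, neg_nonpos, ← hω, ← hV] at h7
      exact (pos_iff FD hp).2 ((FD.posL s hs).2 fun i => h7 i)
    exact h1 hv

end Cfsg.Agent.H522.FamTw.Long

end

-- merged: Cfsg.Agent.BpExc.FamTwFr
section

/-!
# The graph automorphisms are frame automorphisms (S1332-EXC, helper33)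

* `gr_isFrob` : `IsFrob r 0 (gr hD S)`;
* `fr_gr` : `Fr cs _ (TT D k) (XX D l k) (gr hp.inList S) (permE ρ)` for a table symmetry acting on the vectors by the
  permutation `ρ` of the coordinates; instances `fr_six`, `fr_four`;
* `fr_sig`, `isFrob_sig` : `gr ^ j * phi m`.
-/

set_option autoImplicit false
set_option linter.unusedSectionVars false
set_option maxHeartbeats 400000

namespace Cfsg.Agent.H522.FamTw.Frame

open CoxeterSystem Cfsg Cfsg.Lie Cfsg.Agent.ChevalleyStructure Cfsg.Agent.ChevalleyStructure.Elts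
  Cfsg.Agent.ChevalleyStructure.CoxeterGeom Cfsg.Agent.ChevalleyStructure.CoxeterGeomTypes
  Cfsg.Agent.ChevalleyStructure.NPerm Cfsg.Agent.ChevalleyStructure.SignedSymm Cfsg.Agent.Tits.Roots
  Cfsg.Agent.Tits.Core Cfsg.Agent.Nodes.Reps
  Cfsg.Agent.Nodes.BNOf Cfsg.Agent.Nodes.RGDChev Cfsg.Agent.KFacts.RgdChevCoord Cfsg.Agent.LangThm
  Cfsg.Agent.BpExc.Fr Cfsg.Agent.BpExc.LangFr Cfsg.Agent.BpExc.Tow Cfsg.Agent.BpExc.TowChev
  Cfsg.Agent.BpExc.FamInst Cfsg.Agent.BpExc.FamUntw Cfsg.Agent.BpExc.FamTw.Gr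
open Cfsg.Agent.ChevalleyStructure.GraphSymm (symmE6 symmD4a)

universe u v

/-- the permutation of the coordinates -/
def permE {l : ℕ} (ρ : Equiv.Perm (Fin l)) : (Fin l → ℤ) ≃+ (Fin l → ℤ) where
  toFun a := fun i => a (ρ.symm i)
  invFun a := fun i => a (ρ i)
  left_inv a := by funext i; exact congrArg a (ρ.symm_apply_apply i)
  right_inv a := by funext i; exact congrArg a (ρ.apply_symm_apply i)
  map_add' _ _ := rfl

section

variable {D : ChevalleyDatum} {l : ℕ} {M : CoxeterMatrix (Fin l)} (hp : IsType D l M) (S : Symm D)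
  {k : Type u} [Field k] {W : Type v} [Group W] (cs : CoxeterSystem M W)

theorem gr_isFrob (hD : InList D) (r : ℕ) [Fact r.Prime] [CharP k r] : IsFrob r 0 (gr (L := k) hD S) :=
  ⟨S.P k, fun g => by rw [frob_zero]; rfl⟩

theorem mem_XX {r : ℕ} (hr : r < D.nroots) (y : ↥(D.group k)) :
    y ∈ XX D l k (vec D l r) ↔ ∃ t : k, (y : GL D.Idx k) = xG hp.inList r t := by
  show (y : GL D.Idx k) ∈ XV D l k (vec D l r) ↔ _
  rw [XV_vec hp _ hr, mem_rootSubgroup_iff hp.inList]

theorem gr_mem_XX (r : Fin D.nroots) (y : ↥(D.group k)) :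
    gr hp.inList S y ∈ XX D l k (vec D l (S.σ r).val) ↔ y ∈ XX D l k (vec D l r.val) := by
  rw [mem_XX hp (S.σ r).2, mem_XX hp r.2]
  constructor
  · rintro ⟨t, ht⟩
    refine ⟨((S.ε r : ℤ) : k) * t, ?_⟩
    have h1 := P_xG (L := k) hp.inList S r (((S.ε r : ℤ) : k) * t)
    rw [← mul_assoc, S.ε_sq', one_mul, ← ht, coe_gr] at h1
    exact (mul_left_cancel (mul_right_cancel h1)).symm
  · rintro ⟨t, ht⟩
    exact ⟨((S.ε r : ℤ) : k) * t, by rw [coe_gr, ht, P_xG]⟩

/-- `S` acts on the vectors of the roots by a permutation of the coordinates -/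
def VecPerm (D : ChevalleyDatum) (l : ℕ) (S : Symm D) (ρ : Equiv.Perm (Fin l)) : Prop :=
  ∀ (r : Fin D.nroots) (i : Fin l), vec D l (S.σ r).val i = vec D l r.val (ρ.symm i)

variable {S} {ρ : Equiv.Perm (Fin l)}

theorem VecPerm.vec (hv : VecPerm D l S ρ) (r : Fin D.nroots) : vec D l (S.σ r).val = permE ρ (vec D l r.val) :=
  funext fun i => hv r i

/-- **The graph automorphism is a frame automorphism.** -/
theorem fr_gr {ρ' : Fin l → Fin l} (H : OnSimple D l S ρ') (hv : VecPerm D l S ρ) {n : ℕ}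
    (hn : gr (L := k) hp.inList S ^ (n + 1) = 1) :
    Fr cs hp.isCartan (TT D k) (XX D l k) (gr hp.inList S) (permE ρ) where
  tor t := by
    refine ⟨fun ht => ?_, fun ht => gr_TT hp H ht⟩
    have h1 : ∀ m : ℕ, (gr (L := k) hp.inList S ^ m) (gr hp.inList S t) ∈ TT D k := by
      intro m
      induction m with
      | zero => rw [pow_zero]; exact ht
      | succ m ih => rw [pow_succ', MulAut.mul_apply]; exact gr_TT hp H ih
    have h2 := h1 n
    rw [← MulAut.mul_apply, ← pow_succ, hn] at h2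
    exact h2
  root a := by
    rw [isRoot_iff hp cs, isRoot_iff hp cs]
    constructor
    · rintro ⟨s, hs, e⟩
      obtain ⟨r, hr⟩ := S.σ.surjective ⟨s, hs⟩
      refine ⟨r.val, r.2, (permE ρ).injective ?_⟩
      rw [← hv.vec, hr]
      exact e
    · rintro ⟨r, hr, rfl⟩
      exact ⟨(S.σ ⟨r, hr⟩).val, (S.σ ⟨r, hr⟩).2, hv.vec ⟨r, hr⟩⟩
  map a ha y := by
    obtain ⟨r, hr, rfl⟩ := (isRoot_iff hp cs a).1 ha
    rw [← hv.vec ⟨r, hr⟩]
    exact gr_mem_XX hp S ⟨r, hr⟩ y

end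

/-! ### the instances -/

/-- `E₆` -/
def rho6 : Equiv.Perm (Fin 6) where
  toFun := ![5, 1, 4, 3, 2, 0]
  invFun := ![5, 1, 4, 3, 2, 0]
  left_inv := by decide
  right_inv := by decide

/-- `D₄` -/
def rho4 : Equiv.Perm (Fin 4) where
  toFun := ![2, 1, 3, 0]
  invFun := ![3, 1, 0, 2]
  left_inv := by decide
  right_inv := by decide

theorem vecPerm6 : VecPerm chevE6 6 symmE6 rho6 := by
  unfold VecPerm
  decide +kernel

theorem vecPerm4 : VecPerm chevD4 4 symmD4a rho4 := by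
  unfold VecPerm
  decide +kernel

theorem simple_lt6 : ∀ i : Fin 6, chevE6.simple i < chevE6.nroots := by decide +kernel

theorem simple_map6 : ∀ i : Fin 6, (symmE6.σ ⟨chevE6.simple i, simple_lt6 i⟩).val =
    chevE6.simple ((![5, 1, 4, 3, 2, 0] : Fin 6 → Fin 6) i) := by decide +kernel

theorem simple_eps6 : ∀ i : Fin 6, symmE6.ε ⟨chevE6.simple i, simple_lt6 i⟩ = 1 := by decide +kernel

theorem onSimple6 : OnSimple chevE6 6 symmE6 ![5, 1, 4, 3, 2, 0] where
  map i := ⟨simple_lt6 i, simple_map6 i, simple_eps6 i⟩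
  surj := by decide

theorem simple_lt4 : ∀ i : Fin 4, chevD4.simple i < chevD4.nroots := by decide +kernel

theorem simple_map4 : ∀ i : Fin 4, (symmD4a.σ ⟨chevD4.simple i, simple_lt4 i⟩).val =
    chevD4.simple ((![2, 1, 3, 0] : Fin 4 → Fin 4) i) := by decide +kernel

theorem simple_eps4 : ∀ i : Fin 4, symmD4a.ε ⟨chevD4.simple i, simple_lt4 i⟩ = 1 := by decide +kernel

theorem onSimple4 : OnSimple chevD4 4 symmD4a ![2, 1, 3, 0] where
  map i := ⟨simple_lt4 i, simple_map4 i, simple_eps4 i⟩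
  surj := by decide

theorem inListE6 : InList chevE6 := by unfold InList; simp

theorem inListD4 : InList chevD4 := by unfold InList; simp

section

variable {k : Type u} [Field k] {W : Type v} [Group W]

theorem gr_sq6 (hD : InList chevE6) : gr (L := k) hD symmE6 ^ 2 = 1 := gr_sq hD symmE6 (by decide +kernel)

theorem gr_cube4 (hD : InList chevD4) : gr (L := k) hD symmD4a ^ 3 = 1 := gr_cube hD symmD4a (by decide +kernel)

variable (hk : LocFin k) (r : ℕ) [Fact r.Prime] [CharP k r] [PerfectRing k r]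

/-- **The Steinberg automorphism `gr * (a ↦ a ^ r ^ m)` of `E₆(k)`.** -/
noncomputable abbrev sig6 (k : Type u) [Field k] (r : ℕ) [Fact r.Prime] [CharP k r] [PerfectRing k r] (m : ℕ) :
    MulAut ↥(chevE6.group k) := gr inListE6 symmE6 * phi chevE6 k r m

/-- **The automorphism `gr ^ j * (a ↦ a ^ r ^ m)` of `D₄(k)`.** -/
noncomputable abbrev sig4 (k : Type u) [Field k] (r : ℕ) [Fact r.Prime] [CharP k r] [PerfectRing k r] (j m : ℕ) :
    MulAut ↥(chevD4.group k) := gr inListD4 symmD4a ^ j * phi chevD4 k r m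

section Six

variable (hp : IsType chevE6 6 CoxeterMatrix.E₆) (cs : CoxeterSystem CoxeterMatrix.E₆ W)

theorem fr_six : Fr cs hp.isCartan (TT chevE6 k) (XX chevE6 6 k) (gr hp.inList symmE6) (permE rho6) :=
  fr_gr hp cs onSimple6 vecPerm6 (gr_sq6 hp.inList)

include hk in
/-- **`σ = gr * Frob`, type `E₆`.** -/
theorem fr_sig6 (m : ℕ) : Fr cs hp.isCartan (TT chevE6 k) (XX chevE6 6 k) (sig6 k r m) (permE rho6) := by
  have h := (fr_six hp cs).mul (phi_fr hp cs r hk m)
  exact h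

omit hp in
theorem isFrob_sig6 (m : ℕ) : IsFrob r m (sig6 k r m) := by
  have h := (gr_isFrob symmE6 inListE6 r (k := k)).mul (phi_isFrob r m)
  rwa [zero_add] at h

omit hp in
theorem sig6_sq (m : ℕ) : sig6 k r m ^ 2 = phi chevE6 k r (m * 2) := by
  have h1 : Commute (gr inListE6 symmE6) (phi chevE6 k r m) := gr_mul_fld inListE6 symmE6 _
  rw [h1.mul_pow, gr_sq6, one_mul, phi_pow]

omit hp in
theorem sig6_pow {p : ℕ} (hp2 : p % 2 = 1) (m : ℕ) : sig6 k r m ^ p = sig6 k r (m * p) := by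
  have h1 : Commute (gr inListE6 symmE6) (phi chevE6 k r m) := gr_mul_fld inListE6 symmE6 _
  rw [h1.mul_pow, phi_pow]
  congr 1
  have h2 : p = 2 * (p / 2) + 1 := by omega
  rw [h2, pow_add, pow_mul, gr_sq6, one_pow, one_mul, pow_one]

end Six

section Four

variable (hp : IsType chevD4 4 Cfsg.Lie.coxeterD4) (cs : CoxeterSystem Cfsg.Lie.coxeterD4 W)

theorem fr_four : Fr cs hp.isCartan (TT chevD4 k) (XX chevD4 4 k) (gr hp.inList symmD4a) (permE rho4) :=
  fr_gr hp cs onSimple4 vecPerm4 (gr_cube4 hp.inList)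

include hk in
/-- **`gr ^ j * Frob`, type `D₄`.** -/
theorem fr_sig4 (j m : ℕ) : ∃ g' : (Fin 4 → ℤ) ≃+ (Fin 4 → ℤ), Fr cs hp.isCartan (TT chevD4 k) (XX chevD4 4 k)
    (sig4 k r j m) g' := by
  obtain ⟨g', h, -⟩ := (fr_four (k := k) hp cs).pow j
  exact ⟨_, h.mul (phi_fr hp cs r hk m)⟩

omit hp in
theorem isFrob_sig4 (j m : ℕ) : IsFrob r m (sig4 k r j m) := by
  have h := ((gr_isFrob symmD4a inListD4 r (k := k)).pow j).mul (phi_isFrob r m)
  rwa [mul_zero, zero_add] at h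

omit hp in
theorem sig4_pow (j m p : ℕ) : sig4 k r j m ^ p = sig4 k r (j * p) (m * p) := by
  have h1 : Commute (gr inListD4 symmD4a ^ j) (phi chevD4 k r m) :=
    Commute.pow_left (gr_mul_fld inListD4 symmD4a _) j
  rw [h1.mul_pow, phi_pow, ← pow_mul]

omit hp in
theorem sig4_congr {j j' : ℕ} (h : j % 3 = j' % 3) (m : ℕ) : sig4 k r j m = sig4 k r j' m := by
  unfold sig4
  congr 1
  rw [← Nat.div_add_mod j 3, ← Nat.div_add_mod j' 3, pow_add, pow_mul, gr_cube4, one_pow, one_mul, pow_add, pow_mul,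
    gr_cube4, one_pow, one_mul, h]

end Four

end

end Cfsg.Agent.H522.FamTw.Frame

end

-- merged: Cfsg.Agent.BpExc.FamTwSixFam
section

/-!
# S1332-EXC (i2) for `²E₆(q)` (helper33)

* `eq_one_of_comm` : `C(em (²E₆(q))) = 1` in `E₆(L)`, any field `L`;
* `fam` : the hypothesis `hfam` of `Asm.bps` for `em q f : ²E₆(q) → E₆(k)`, `σ = gr * phi n`, `q = r ^ n`.
-/

set_option autoImplicit false
set_option linter.unusedSectionVars false
set_option maxHeartbeats 400000

namespace Cfsg.Agent.H522.FamTw.Six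

open Cfsg.Agent.BpExc.FamTw Cfsg.Agent.BpExc.FamTw.Six Cfsg.Agent.BpExc.FamTw.Tor

open CoxeterSystem Cfsg Cfsg.Agent.ChevalleyStructure.CoxeterGeom Cfsg.Agent.Tits.Roots Cfsg.Agent.Tits.Core
  Cfsg.Agent.Tits.Exchange Cfsg.Agent.Nodes.Reps Cfsg.Agent.Nodes.BNOf Cfsg.Agent.Nodes.StabComb
  Cfsg.Agent.Nodes.Bruhat Cfsg.Agent.Nodes.OppDec Cfsg.Agent.Nodes.RGDTwGen Cfsg.Agent.Nodes.RGDChev
  Cfsg.Agent.Nodes.RGDFold Cfsg.Agent.Nodes.RGDFoldSL
open Cfsg.Agent.KFacts.RgdOpp Cfsg.Agent.KFacts.RgdAut Cfsg.Agent.KFacts.RgdDiag Cfsg.Agent.KFacts.RgdRigid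
  Cfsg.Agent.KFacts.RgdField Cfsg.Agent.KFacts.RgdTau Cfsg.Agent.KFacts.RgdNodes
open Cfsg.Lie Cfsg.Agent.ChevalleyStructure Cfsg.Agent.ChevalleyStructure.Elts Cfsg.Agent.ChevStructure.FieldMap
open Cfsg.Agent.ChevalleyStructure.SL2Hom (up lo)
open Cfsg.Agent.KFacts.TwESix.NodeCoord Cfsg.Agent.KFacts.TwESix.Out Cfsg.Agent.KFacts.TwESix.OutTwo
open Cfsg.Agent.Nodes.RGDTwE6 Cfsg.Agent.Nodes.RGDTwNode.E6
open Cfsg.Agent.ChevalleyStructure.TwE6Basic (hE6 single_mem pair_mem twisted_le_iff exists_frob twisted_le_fix)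
open Cfsg.Agent.ChevalleyStructure.GraphSymm (symmE6)
open Cfsg.Agent.CpAut.RgdFix Cfsg.Agent.CpAut.RgdCoh Cfsg.Agent.CpAut.RgdConj Cfsg.Agent.CpAut.RgdSub
  Cfsg.Agent.CpAut.RgdTwStd Cfsg.Agent.CpAut.RgdTwE6
open Cfsg.Agent.CpAut.RgdUntw (fld fld_coe)
open Cfsg.Agent.GpExc.Field (glMap coe_glMap)
open Cfsg.Agent.BpExc.FamTw.Gr
open Cfsg.Agent.KFacts.RgdChevCoord (TT XX)

universe u v

section Cent

variable {K : Type u} {L : Type v} [Field K] [Fintype K] [Field L] {q : ℕ} {φ : K →+* K} (hφ : ∀ x, φ x = x ^ q)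
  (hqq : ∀ t : K, (t ^ q) ^ q = t) (f : K →+* L)

/-- a regular unipotent element -/
noncomputable def u0 : ↥(twistedE6 K q) :=
  PhiE hφ hqq 0 (up 1) * PhiE hφ hqq 1 (up 1) * PhiE hφ hqq 2 (up 1) * PhiE hφ hqq 3 (up 1)

theorem coe_u0 : glMap chevE6 f (u0 hφ hqq : GL chevE6.Idx K) =
    wordG hE6 [(46, 1), (39, 1), (42, 1), (37, 1), (56, 1), (36, 1)] := by
  have h1 : ∀ i : Fin 4, ((1 : KF φ i) : K) = 1 := fun _ => rfl
  unfold u0
  rw [Subgroup.coe_mul, Subgroup.coe_mul, Subgroup.coe_mul, coe_up, coe_up, coe_up, coe_up, h1, h1, h1, h1]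
  show glMap chevE6 f (xG hE6 46 1 * 1 * (xG hE6 39 1 * 1) * (xG hE6 42 1 * (xG hE6 37 (φ 1) * 1)) *
    (xG hE6 56 1 * (xG hE6 36 (φ 1) * 1))) = xG hE6 46 1 * (xG hE6 39 1 * (xG hE6 42 1 * (xG hE6 37 1 *
      (xG hE6 56 1 * (xG hE6 36 1 * 1)))))
  simp only [map_mul, map_one, mul_one, Cfsg.Agent.GpExc.Field.glMap_xG, mul_assoc]

theorem isPos6 : ∀ r : Fin 72, 36 ≤ r.val → chevE6.IsPosRoot r.val := by decide +kernel

theorem simple6 : chevE6.simple 0 = 56 ∧ chevE6.simple 1 = 46 ∧ chevE6.simple 2 = 42 ∧ chevE6.simple 3 = 39 ∧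
    chevE6.simple 4 = 37 ∧ chevE6.simple 5 = 36 := by decide +kernel

include hφ hqq in
/-- **The centralizer of `²E₆(q)` in `E₆(L)` is trivial.** -/
theorem eq_one_of_comm (z : ↥(chevE6.group L)) (hz : ∀ g, z * em q f g = em q f g * z) : z = 1 := by
  obtain ⟨g0, hg0, hN, hlong⟩ := Long.exists_long_mono (k := L) foldData (foldGrp hφ hqq) f isCartan
  have h1 := congrArg Subtype.val (hz ⟨g0, hg0⟩)
  have h2 := congrArg Subtype.val (hz (u0 hφ hqq))
  apply Subtype.ext
  have hpos : ∀ q ∈ ([(46, 1), (39, 1), (42, 1), (37, 1), (56, 1), (36, 1)] : List (ℕ × L)), chevE6.IsPosRoot q.1 := by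
    intro q hq
    simp only [List.mem_cons, List.not_mem_nil, or_false] at hq
    rcases hq with rfl | rfl | rfl | rfl | rfl | rfl
    · exact isPos6 46 (by norm_num)
    · exact isPos6 39 (by norm_num)
    · exact isPos6 42 (by norm_num)
    · exact isPos6 37 (by norm_num)
    · exact isPos6 56 (by norm_num)
    · exact isPos6 36 (by norm_num)
  refine Cent.eq_one_of_comm hp z.2 (u := glMap chevE6 f (u0 hφ hqq : GL chevE6.Idx K)) (n := glMap chevE6 f g0) ?_
    (fun i hi => ⟨1, ?_, one_ne_zero⟩) h2 hN hlong h1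
  · rw [coe_u0]
    refine mem_of_xG_mem hE6 fun q hq => ?_
    exact xG_mem_posUnipotent hE6 (hpos q hq) _
  · rw [coe_u0]
    have h3 := Cent.co_word (hD := hE6) hi _ hpos
    have h4 : i < 6 := hi
    obtain ⟨e0, e1, e2, e3, e4, e5⟩ := simple6
    interval_cases i <;> simpa [e0, e1, e2, e3, e4, e5] using h3

end Cent

/-- the norm, once more -/
theorem pow_eq' {G Y : Type*} [Group G] [Group Y] {e : G →* Y} {σ ψ : MulAut Y} (hσψ : Commute σ ψ)
    (hc : ∀ c, (∀ g, c * e g = e g * c) → c = 1) {p : ℕ} {x : MulAut G} (hx : x ^ p = 1) (hψσ : ψ ^ p = σ)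
    (hσe : ∀ g, σ (e g) = e g) {y : Y} (hy : σ y = y) (hxy : ∀ g, e (x g) = (MulAut.conj y * ψ) (e g)) :
    (MulAut.conj y * ψ) ^ p = σ := by
  rw [← hψσ]
  exact pow_eq (fun z => congrArg (fun β : MulAut Y => β z) hσψ.eq) (fun c _ h => hc c h) hx
    (fun g => by rw [hψσ]; exact hσe g) hy hxy

section Main

open Cfsg.Agent.BpExc.FamField (frb frb_apply pow_apply_of exists_field)
open Cfsg.Agent.BpExc.FamUntw (phi phi_coe phi_pow)
open Cfsg.Agent.H522.FamTw.Frame
open Cfsg.Agent.BpExc.LangFr Cfsg.Agent.BpExc.Fr Cfsg.Agent.BpExc.Tow Cfsg.Agent.BpExc.TowChev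

variable {K : Type u} [Field K] [Fintype K] {q : ℕ} {k : Type v} [Field k] (f : K →+* k)

theorem st_one (g : ↥(twistedE6 K q)) : st q (1 : K ≃+* K) g = g := Subtype.ext (glE_one _)

variable (r : ℕ) [Fact r.Prime] [CharP k r] [PerfectRing k r]

theorem em_st {τ : K ≃+* K} {m : ℕ} (hτ : ∀ a, τ a = a ^ r ^ m) (g : ↥(twistedE6 K q)) :
    em q f (st q τ g) = phi chevE6 k r m (em q f g) := by
  apply Subtype.ext
  apply Units.ext
  rw [phi_coe]
  ext a b
  show f (τ _) = (f _) ^ r ^ m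
  rw [hτ, map_pow]
  rfl

variable [CharP K r] {φ : K →+* K} (hφ : ∀ x, φ x = x ^ q) (hqq : ∀ t : K, (t ^ q) ^ q = t)

theorem phi_add (m n : ℕ) : phi chevE6 k r (m + n) = phi chevE6 k r m * phi chevE6 k r n := by
  unfold phi frb
  rw [pow_add, Cfsg.Agent.CpAut.RgdUntw.fld_mul]

theorem sig6_comm (m n : ℕ) : Commute (sig6 k r m) (sig6 k r n) := by
  have h0 : ∀ m' : ℕ, Commute (gr (L := k) inListE6 symmE6) (phi chevE6 k r m') :=
    fun m' => gr_mul_fld inListE6 symmE6 _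
  have h2 : Commute (phi chevE6 k r m) (phi chevE6 k r n) := by
    show _ * _ = _ * _
    rw [← phi_add, ← phi_add, add_comm]
  exact ((Commute.refl _).mul_right (h0 n)).mul_left ((h0 m).symm.mul_right h2)

theorem gr_gr6 (z : ↥(chevE6.group k)) : gr inListE6 symmE6 (gr inListE6 symmE6 z) = z := by
  have h := congrArg (fun β : MulAut ↥(chevE6.group k) => β z) (gr_sq6 (k := k) inListE6)
  exact h

include hφ hqq in
theorem sig6_em {n : ℕ} (hn : q = r ^ n) (g : ↥(twistedE6 K q)) : sig6 k r n (em q f g) = em q f g :=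
  sig_em hφ hqq f (Φ := frb k r n) (fun a => by rw [frb_apply, hφ, map_pow, hn]) g

include hφ hqq in
/-- the field part of `sig6 m` on `²E₆(q)` -/
theorem em_st_sig6 {n : ℕ} (hn : q = r ^ n) {m : ℕ} {τ : K ≃+* K} (hτ : ∀ a, τ a = a ^ r ^ (m + n))
    (g : ↥(twistedE6 K q)) : em q f (st q τ g) = sig6 k r m (em q f g) := by
  have h1 : phi chevE6 k r n (em q f g) = gr inListE6 symmE6 (em q f g) := by
    have h2 := congrArg (gr inListE6 symmE6) (sig6_em f r hφ hqq hn g)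
    rw [← h2]
    exact (gr_gr6 _).symm
  have h3 : Commute (gr (L := k) inListE6 symmE6) (phi chevE6 k r m) := gr_mul_fld inListE6 symmE6 _
  rw [em_st f r hτ, phi_add, MulAut.mul_apply, h1]
  exact (congrArg (fun β : MulAut ↥(chevE6.group k) => β (em q f g)) h3.eq).symm

include hφ hqq in
/-- **The automorphisms of odd prime order of `²E₆(q)`.** -/
theorem cases (hroot : ∀ a : K, ∃ b : k, b ^ 3 = f a) {n : ℕ} (hn : q = r ^ n) (hq1 : 1 < q)
    (hK : Fintype.card K = q ^ 2) {p : ℕ} (hpp : p.Prime) (hp2 : p ≠ 2) {x : MulAut ↥(twistedE6 K q)}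
    (hx : x ^ p = 1) :
    (∃ y : ↥(chevE6.group k), y ^ p = 1 ∧ sig6 k r n y = y ∧ ∀ g, em q f (x g) = y * em q f g * y⁻¹) ∨
    ∃ i m : ℕ, i.Coprime p ∧ 0 < m ∧ m * p = n ∧ ∃ y : ↥(chevE6.group k),
      (MulAut.conj y * sig6 k r m) ^ p = sig6 k r n ∧
      ∀ g, em q f ((x ^ i) g) = (MulAut.conj y * sig6 k r m) (em q f g) := by
  have hW : Finite CoxeterMatrix.F₄.Group := finite_W (hp := hp) CoxeterMatrix.F₄.toCoxeterSystem isCartan foldData
  have hΦ : ∀ a, frb k r n (f a) = f (φ a) := by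
    intro a
    rw [frb_apply, hφ, map_pow, hn]
  have hone := eq_one_of_comm hφ hqq f (L := k)
  obtain ⟨a, τ, y, S, hσy, hy⟩ := exists_lift hφ hqq CoxeterMatrix.F₄.toCoxeterSystem r f hK hq1 hroot hΦ x
  have hτp := tau_pow_eq_one hφ hqq CoxeterMatrix.F₄.toCoxeterSystem r S hx
  by_cases hτ1 : τ = 1
  · left
    subst hτ1
    have hy' : ∀ g, em q f (x g) = y * em q f g * y⁻¹ := fun g => by rw [hy g, st_one]
    have hσy2 : sig6 k r n y = y := by
      rw [MulAut.mul_apply]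
      exact hσy
    refine ⟨y, hone _ fun g => ?_, hσy2, hy'⟩
    have h1 : ∀ m : ℕ, ∀ g, em q f ((x ^ m) g) = y ^ m * em q f g * (y ^ m)⁻¹ := by
      intro m
      induction m with
      | zero => intro g; rw [pow_zero, pow_zero, one_mul, inv_one, mul_one]; rfl
      | succ m ih =>
        intro g
        rw [pow_succ, MulAut.mul_apply, ih, hy', pow_succ]
        group
    have h2 := h1 p g
    rw [hx] at h2
    have h3 : em q f g = y ^ p * em q f g * (y ^ p)⁻¹ := h2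
    conv_rhs => rw [h3]
    group
  · right
    obtain ⟨i, e, hi, he0, hcard, hfr⟩ := exists_field r hpp hτp hτ1
    have hrp : r.Prime := Fact.out
    have hep : e * p = 2 * n := by
      have h1 : r ^ (e * p) = r ^ (2 * n) := by
        rw [← hcard, Nat.card_eq_fintype_card, hK, hn, ← pow_mul, mul_comm]
      exact Nat.pow_right_injective hrp.two_le h1
    have hodd : p % 2 = 1 := hpp.eq_two_or_odd.resolve_left hp2
    have h2e : 2 ∣ e := by
      have h1 : 2 ∣ e * p := ⟨n, hep⟩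
      exact (Nat.Coprime.dvd_of_dvd_mul_right ((Nat.coprime_primes Nat.prime_two hpp).2 (Ne.symm hp2)) h1)
    obtain ⟨m, rfl⟩ := h2e
    have hmn : m * p = n := by
      have h1 : 2 * (m * p) = 2 * n := by rw [← hep]; ring
      exact Nat.eq_of_mul_eq_mul_left two_pos h1
    have hm0 : 0 < m := by omega
    obtain ⟨j, hj⟩ : ∃ j, 2 * j = p + 1 := ⟨(p + 1) / 2, by omega⟩
    have hjp : j.Coprime p := by
      have h1 : (2 * j).Coprime p := by
        rw [hj]
        exact (Nat.coprime_self_add_left (m := p) (n := 1)).2 (Nat.coprime_one_left p)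
      exact Nat.Coprime.coprime_mul_left h1
    obtain ⟨a', τ', y', S', hσy', hy'⟩ := exists_lift hφ hqq CoxeterMatrix.F₄.toCoxeterSystem r f hK hq1 hroot hΦ
      (x ^ (i * j))
    obtain ⟨b, Sb⟩ := ftau_pow' hφ hqq S (i * j)
    have hτ' : τ' = τ ^ (i * j) := ftau_unique hφ hqq CoxeterMatrix.F₄.toCoxeterSystem r S' Sb
    have hfr' : ∀ a, τ' a = a ^ r ^ (m + n) := by
      intro a
      rw [hτ', pow_mul, pow_apply_of hfr]
      congr 2
      rw [← hmn]
      have : 2 * m * j = m * (2 * j) := by ring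
      rw [this, hj]
      ring
    have key := em_st_sig6 f r hφ hqq hn hfr'
    have hpow : sig6 k r m ^ p = sig6 k r n := by rw [sig6_pow r hodd, hmn]
    have hx2 : (x ^ (i * j)) ^ p = 1 := by rw [← pow_mul, mul_comm, pow_mul, hx, one_pow]
    have hσy2 : sig6 k r n y' = y' := by
      rw [MulAut.mul_apply]
      exact hσy'
    have hxy : ∀ g, em q f ((x ^ (i * j)) g) = (MulAut.conj y' * sig6 k r m) (em q f g) := by
      intro g
      rw [hy' g, key, MulAut.mul_apply _ (MulAut.conj y'), MulAut.conj_apply]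
    exact ⟨i * j, m, hi.mul_left hjp, hm0, hmn, y', pow_eq' (sig6_comm r n m) hone hx2 hpow
      (sig6_em f r hφ hqq hn) hσy2 hxy, hxy⟩

end Main

section Fam

open Cfsg.Agent.BpExc.FamUntw (phi)
open Cfsg.Agent.H522.FamTw.Frame
open Cfsg.Agent.BpExc.LangFr Cfsg.Agent.BpExc.Fr Cfsg.Agent.BpExc.Tow Cfsg.Agent.BpExc.TowChev

variable {K : Type u} [Field K] [Fintype K] {q : ℕ} {k : Type u} [Field k] [IsAlgClosed k] (hk : LocFin k)
  (f : K →+* k) (r : ℕ) [Fact r.Prime] [CharP k r] [CharP K r] {W : Type v} [Group W]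

include hk in
/-- **(i2) for `²E₆(q)`: the hypothesis `hfam` of `Asm.bps`**, `ι = em q f`, `σ = sig6 k r n`, `q = r ^ n`. -/
theorem fam (hp : IsType chevE6 6 CoxeterMatrix.E₆) (cs : CoxeterSystem CoxeterMatrix.E₆ W) {n : ℕ} (hn0 : 0 < n)
    (hn : q = r ^ n) (hK : Fintype.card K = q ^ 2) {p : ℕ} (hpp : p.Prime) (hp2 : p ≠ 2)
    (x : MulAut ↥(twistedE6 K q)) (hx : orderOf x = p) :
    (∃ y : ↥(chevE6.group k), y ^ p = 1 ∧ sig6 k r n y = y ∧ ∀ a, em q f (x a) = y * em q f a * y⁻¹) ∨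
    ∃ (i : ℕ) (c : ↥(chevE6.group k)) (φ : MulAut ↥(chevE6.group k)) (g' : (Fin 6 → ℤ) ≃+ (Fin 6 → ℤ)) (e' : ℕ),
      i.Coprime p ∧ 0 < e' ∧ IsFrob r e' φ ∧ Fr cs hp.isCartan (TT chevE6 k) (XX chevE6 6 k) φ g' ∧
      fixedSubgroup (MulAut.conj c * φ) ≤ fixedSubgroup (sig6 k r n) ∧
      ∀ a, em q f ((x ^ i) a) = (MulAut.conj c * φ) (em q f a) := by
  have hperf : PerfectRing k r := inferInstance
  have hrp : r.Prime := Fact.out
  have hq1 : 1 < q := by rw [hn]; exact Nat.one_lt_pow hn0.ne' hrp.one_lt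
  have hq : IsPrimePow q := (isPrimePow_nat_iff _).2 ⟨r, n, hrp, hn0, hn.symm⟩
  obtain ⟨φ, hφ, hqq⟩ := exists_frob hq hK
  have hxp : x ^ p = 1 := by rw [← hx, pow_orderOf_eq_one]
  rcases cases f r hφ hqq (fun a => IsAlgClosed.exists_pow_nat_eq (f a) (by norm_num)) hn hq1 hK hpp hp2 hxp with h | h
  · exact Or.inl h
  · obtain ⟨i, m, hi, hm0, hmn, y, hy, h⟩ := h
    refine Or.inr ⟨i, y, sig6 k r m, permE rho6, m, hi, hm0, isFrob_sig6 r m, fr_sig6 hk r hp cs m, ?_, h⟩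
    intro z hz
    have h1 := Cfsg.Agent.BpExc.Glue.mem_fixed_pow (Cfsg.Agent.BpExc.Glue.mem_fixed.1 hz) p
    rw [hy] at h1
    exact h1

theorem em_fix {n : ℕ} (hn0 : 0 < n) (hn : q = r ^ n) (hK : Fintype.card K = q ^ 2) (a : ↥(twistedE6 K q)) :
    sig6 k r n (em q f a) = em q f a := by
  have hrp : r.Prime := Fact.out
  have hq : IsPrimePow q := (isPrimePow_nat_iff _).2 ⟨r, n, hrp, hn0, hn.symm⟩
  obtain ⟨φ, hφ, hqq⟩ := exists_frob hq hK
  exact sig6_em f r hφ hqq hn a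

end Fam

end Cfsg.Agent.H522.FamTw.Six

end

private theorem dce_2edc77a286c5 : _root_.True := by
  try have : _root_.True := by simp only [_root_.Cfsg.Agent.H522.FamTw.Cent.Co.congr_simp]
  exact _root_.True.intro
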