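import Cfsg.Agent.BpExc.NChev
import Cfsg.Agent.BpExc.AsmN_m3
import Cfsg.Agent.H523.FpfCyc
import Cfsg.Agent.BpExc.EmbSplit
import Cfsg.Agent.FastGrp
import Cfsg.Agent.Prune
set_option linter.all false
prune_inst 0x7f00000000000000000000000000000000000000000000000000000000000000000000000000000000000000000000000000000000000000000000000000000000000000000000000000000000000000003fffffffffffffffffffffffffffbeffbdffffffff
open scoped Cfsg.Agent.FastGrp

-- part: H522/FldElt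
section
/-!
# Elements of order `r` fixed by automorphisms, in `D.group k` (helper522)

`k` algebraically closed of characteristic `r`, locally finite; `σ` a Frobenius frame automorphism of `D.group k`.
* `exists_fixed_level` : `τ` fixes the torus element `t` and preserves the positive roots of `Sx t ≠ ∅`:
  `C(t) ∩ Y^τ` contains an element of order `r`;
* `exists_relt` : the same for `σ x = x`, `x` conjugate to `t ∈ T`, `Sx t ≠ ∅`;
* `exists_relt_fld` : automorphisms `conj c * φ` fix an element of order `r`;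
* `main` : the conclusion for automorphisms of a subgroup `K₀` of `Y^σ`.
-/

set_option autoImplicit false
set_option linter.unusedSectionVars false

namespace Cfsg.Agent.H522.FldElt

open CoxeterSystem Cfsg Cfsg.Lie Cfsg.Lie.ChevalleyDatum
open Cfsg.Agent.ChevalleyStructure Cfsg.Agent.ChevalleyStructure.Elts Cfsg.Agent.ChevalleyStructure.CoxeterGeom
  Cfsg.Agent.ChevalleyStructure.CoxeterGeomTypes Cfsg.Agent.ChevalleyStructure.NPerm
open Cfsg.Agent.Tits.Roots Cfsg.Agent.Tits.Core Cfsg.Agent.Nodes Cfsg.Agent.Nodes.Reps Cfsg.Agent.Nodes.BNOf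
  Cfsg.Agent.Nodes.RGDChev Cfsg.Agent.Nodes.Bruhat Cfsg.Agent.Nodes.NormalForm
open Cfsg.Agent.KFacts.RgdField Cfsg.Agent.KFacts.RgdChevCoord
open Cfsg.Agent.BpExc Cfsg.Agent.BpExc.TorCent Cfsg.Agent.BpExc.TorChev Cfsg.Agent.BpExc.Tow
  Cfsg.Agent.BpExc.TowChev Cfsg.Agent.BpExc.Fr Cfsg.Agent.BpExc.Pair Cfsg.Agent.BpExc.LangFr Cfsg.Agent.GpExc.Field
  Cfsg.Agent.BpExc.NInst Cfsg.Agent.BpExc.NChev
open scoped commutatorElement

universe u v

/-! ### elements of order `r` -/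

theorem exists_order {G : Type*} [Group G] {r k : ℕ} {u : G} (h : u ^ r ^ k = 1) (h1 : u ≠ 1) :
    ∃ j : ℕ, u ^ r ^ j ≠ 1 ∧ (u ^ r ^ j) ^ r = 1 := by
  classical
  have hex : ∃ j, u ^ r ^ j = 1 := ⟨k, h⟩
  have h0 : Nat.find hex ≠ 0 := by
    intro h0
    have h2 := Nat.find_spec hex
    rw [h0, pow_zero, pow_one] at h2
    exact h1 h2
  obtain ⟨m, hm⟩ := Nat.exists_eq_succ_of_ne_zero h0
  refine ⟨m, Nat.find_min hex (by rw [hm]; exact Nat.lt_succ_self m), ?_⟩
  have h2 := Nat.find_spec hex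
  rw [hm, Nat.succ_eq_add_one, pow_succ, pow_mul] at h2
  exact h2

variable {D : ChevalleyDatum} {l : ℕ} {M : CoxeterMatrix (Fin l)} (hp : IsType D l M) {k : Type u} [Field k]
  {W : Type v} [Group W] (cs : CoxeterSystem M W)

/-- **Fixed elements of order `r` in `C(t)`.** -/
theorem exists_fixed_level [IsAlgClosed k] (hk : LocFin k) {r e : ℕ} [Fact r.Prime] [CharP k r]
    {t : ↥(D.group k)} (ht : t ∈ TT D k) (he : 0 < e) {τ : MulAut ↥(D.group k)}
    (hτ : IsFrob r e τ) {g : (Fin l → ℤ) ≃+ (Fin l → ℤ)} (F : Fr cs hp.isCartan (TT D k) (XX D l k) τ g)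
    (hτt : τ t = t) (hpos : ∀ a ∈ Sx cs hp.isCartan (ch hp) t, 0 ≤ a → 0 ≤ g a) [Finite ↥(fixC τ t)]
    (hne : (Sx cs hp.isCartan (ch (K := k) hp) t).Nonempty) :
    ∃ u ∈ fixC τ t, u ≠ 1 ∧ u ^ r = 1 := by
  have := finite_W hp cs
  have H := tow (k := k) hp cs hk r
  have C := coordsL (k := k) hp cs hk r
  have hA := chAddL (k := k) hp cs hk r
  have hG := GG_eq_top (k := k) hp cs hk
  have hTL := TL_eq (k := k) hp hk
  have hXL := XL_eq (k := k) hp hk
  have F' : Fr cs hp.isCartan (TL (Tj hp (k := k))) (XL (Xj hp (k := k))) τ g := by rw [hTL, hXL]; exact F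
  have hsep : ∀ a, IsRoot cs hp.isCartan a → ∃ s ∈ TL (Tj hp (k := k)), ∀ u ∈ XL (Xj hp (k := k)) a,
      u * s = s * u → u = 1 := by
    rw [hTL, hXL]
    exact fun a ha => sep hp cs hk r ha
  -- the level
  obtain ⟨E1, hE1⟩ := HX.fr_level hp cs hk hτ F
  obtain ⟨E2, hE2⟩ := HX.exists_fixed_level hp cs hk he hτ F
  obtain ⟨E3, hE3⟩ := exists_TT hp hk ht
  obtain ⟨E4, hE4⟩ := exists_level_finite hp hk (S := (fixC τ t : Set ↥(D.group k))) (Set.toFinite _)
  obtain ⟨E5, a1, a2⟩ := dir_lev hk E1 E2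
  obtain ⟨E6, a3, a4⟩ := dir_lev hk E3 E4
  obtain ⟨E, b1, b2⟩ := dir_lev hk E5 E6
  have FE := hE1 E (a1.trans b1)
  have hX : ∀ a, Xj hp E a ≤ XX D l k a := fun a => by rw [← hXL]; exact le_XL E a
  have hT : Tj hp E ≤ TT D k := by rw [← hTL]; exact le_TL E
  obtain ⟨t', ht', htt⟩ := hE3 E (a3.trans b2)
  have htE : t ∈ Tj hp E := ⟨t', ht', htt⟩
  have Dt : NInst.Dat (H.rgd E) t (Sx cs hp.isCartan (ch hp) t) τ g :=
    { mem := htE
      root := fun a ha => ha.1
      neg := fun a ha => chi_neg C ht hA ha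
      cent := fun a ha => (hX a).trans (X_le_centralizer C ht ha)
      of_cent := fun a ha u hu hu1 hc => mem_Sx_of_centralizer C ht ha (hX a hu) hu1 hc
      fr := FE
      fix := hτt
      pos := hpos
      rp := fun w kk hkk => by
        obtain ⟨w', hw'⟩ := rp_fr H hG hsep F' (H.rp_up hkk)
        obtain ⟨k0, h0, h0'⟩ := H.exists_rp w'
        have h1 : k0⁻¹ * τ kk ∈ TT D k := by
          rw [← hTL]
          exact h0'.unique hw'
        have h2 : k0⁻¹ * τ kk ∈ (emb hp.inList E.1.subtype).range := by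
          rw [← GGj_eq hp cs]
          refine mul_mem (inv_mem ?_) (fr_GG FE ?_)
          · exact (mem_GG (H.rgd E)).2 ⟨w', cell_of_rp (h0 E)⟩
          · exact (mem_GG (H.rgd E)).2 ⟨w, cell_of_rp hkk⟩
        have h3 : k0⁻¹ * τ kk ∈ Tj hp E := (HX.mem_Tj hp cs hk r).2 ⟨h1, h2⟩
        have e : τ kk = k0 * (k0⁻¹ * τ kk) := by group
        exact ⟨w', by rw [e]; exact (h0 E).mul_mem_right h3⟩
      comm := fun x hx y hy hxy hxy' a ha b hb => by
        have h1 := CommZ.comm_mem_Zj hp cs E hx.1 hy.1 hxy hxy' ha hb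
        refine RGD.Sup_mono (S := CommZ.combZ cs hp x y) ?_ h1
        rintro z ⟨hz, i, j, hi, hj, e⟩
        obtain ⟨φ, h0, hadd, hφ⟩ := hA t ht
        have hn : ∀ (i : ℕ) (x : Fin l → ℤ), φ (i • x) = φ x ^ i := by
          intro i x
          induction i with
          | zero => rw [zero_smul, pow_zero, h0]
          | succ i ih => rw [succ_nsmul, hadd, ih, pow_succ]
        refine ⟨⟨hz, ?_⟩, i, j, hi, hj, e⟩
        rw [hφ z hz, e, hadd, hn, hn, ← hφ x hx.1, ← hφ y hy.1, hx.2, hy.2, one_pow, one_pow, one_mul]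
      fixed := fun a ha => hE2 E (a2.trans b1) a ha.1
      le := fun y hy => by
        rw [GGj_eq hp cs]
        exact hE4 E (a4.trans b2) hy }
  obtain ⟨a0, ha0⟩ := hne
  have hneP : (SP (Sx cs hp.isCartan (ch (K := k) hp) t)).Nonempty := by
    rcases (Dt.root a0 ha0).pos_or_neg with h1 | h1
    · exact ⟨a0, ha0, h1⟩
    · exact ⟨-a0, Dt.neg a0 ha0, neg_nonneg.2 h1⟩
  obtain ⟨u, hu, hu1, hτu⟩ := Dt.exists_fixed hneP (fun _ h => h) (fun a ha => ⟨Dt.g_mem ha.1, Dt.pos a ha.1 ha.2⟩)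
    (by
      rintro a ha b hb z hz ⟨i, j, hi, hj, rfl⟩
      refine ⟨hz, ?_⟩
      exact add_nonneg (nsmul_nonneg ha.2 i) (nsmul_nonneg hb.2 j))
  have huc : u * t = t * u := Subgroup.mem_centralizer_singleton_iff.1 (Dt.U_cent hu)
  have huU : u ∈ RGD.Sup (Xj hp E) (RGD.Pos cs hp.isCartan) := Dt.U_le hu
  obtain ⟨m, hm⟩ := (H.rgd E).isPGroup_Upos ⟨u, huU⟩
  have hm' : u ^ r ^ m = 1 := congrArg Subtype.val hm
  obtain ⟨j, hj1, hj⟩ := exists_order hm' hu1
  exact ⟨u ^ r ^ j, pow_mem (mem_fixC.2 ⟨hτu, huc⟩) _, hj1, hj⟩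

include hp cs in
/-- **The pair reduction**, with the torus element explicit. -/
theorem exists_pair' [IsAlgClosed k] (hk : LocFin k) {r : ℕ} [Fact r.Prime] [CharP k r]
    {σ : MulAut ↥(D.group k)} {g : (Fin l → ℤ) ≃+ (Fin l → ℤ)} {e : ℕ} (he : 0 < e) (hσ : IsFrob r e σ)
    (Fσ : Fr cs hp.isCartan (TT D k) (XX D l k) σ g) [Finite ↥(fixedSubgroup σ)] {x : ↥(D.group k)}
    (hσx : σ x = x) {z : ↥(D.group k)} (hz : z * x * z⁻¹ ∈ TT D k) :
    ∃ (τ : MulAut ↥(D.group k)) (g' : (Fin l → ℤ) ≃+ (Fin l → ℤ)),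
      IsFrob r e τ ∧ Fr cs hp.isCartan (TT D k) (XX D l k) τ g' ∧ τ (z * x * z⁻¹) = z * x * z⁻¹ ∧
      (∀ a ∈ Sx cs hp.isCartan (ch hp) (z * x * z⁻¹), 0 ≤ a → 0 ≤ g' a) ∧ Finite ↥(fixedSubgroup τ) ∧
      Nonempty (↥(fixC τ (z * x * z⁻¹)) ≃* ↥(fixC σ x)) := by
  have := finite_W hp cs
  have hTL := TL_eq hp hk
  have hXL := XL_eq hp hk
  have C := coordsL hp cs hk r
  have hA := chAddL hp cs hk r
  have hG := GG_eq_top hp cs hk
  have Fσ' : Fr cs hp.isCartan (TL (Tj hp (k := k))) (XL (Xj hp (k := k))) σ g := by rw [hTL, hXL]; exact Fσ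
  set! t : ↥(D.group k) := z * x * z⁻¹ with ht; rewrite [← ht] at hz ⊢
  have ht' : t ∈ TL (Tj hp (k := k)) := by rw [hTL]; exact hz
  have C' : Coords cs hp.isCartan (TL (Tj hp (k := k))) (nc hp k) (XL (Xj hp (k := k))) (xc hp) (ch hp) := by
    rw [hTL, hXL]; exact C
  have hA' : ChAdd cs hp.isCartan (TL (Tj hp (k := k))) (ch (K := k) hp) := by rw [hTL]; exact hA
  obtain ⟨z', k', g', h1, h2, h3, h4, h5⟩ := pair_reduction (tow hp cs hk r) C' hA' hG Fσ' hσx (z := z⁻¹) (t := t)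
    (by rw [ht]; group) ht' (fun k' g' F' htt m hm => by
      have h1 := fun a => F'.mem_Sx C' ht' htt a
      rw [hTL, hXL] at F'
      rw [hXL] at hm ⊢
      exact lang_fr hp cs he (hσ.conj_mul k') F' (S := Sx cs hp.isCartan (ch hp) t) (fun a ha => ha.1)
        (fun a ha => (h1 a).2 ha) hm)
  rw [hTL, hXL] at h3
  exact ⟨MulAut.conj k' * σ, g', hσ.conj_mul k', h3, h4, h5, Asm.finite_conj h2, ⟨fixEquiv h1 h2⟩⟩

include hp cs in
/-- **Fixed elements of order `r` in `C(x)`.** -/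
theorem exists_relt [IsAlgClosed k] (hk : LocFin k) {r : ℕ} [Fact r.Prime] [CharP k r]
    {σ : MulAut ↥(D.group k)} {g : (Fin l → ℤ) ≃+ (Fin l → ℤ)} {e : ℕ} (he : 0 < e) (hσ : IsFrob r e σ)
    (Fσ : Fr cs hp.isCartan (TT D k) (XX D l k) σ g) [Finite ↥(fixedSubgroup σ)] {x : ↥(D.group k)}
    (hσx : σ x = x) {z : ↥(D.group k)} (hz : z * x * z⁻¹ ∈ TT D k)
    (hne : (Sx cs hp.isCartan (ch (K := k) hp) (z * x * z⁻¹)).Nonempty) :
    ∃ u, σ u = u ∧ u * x = x * u ∧ u ≠ 1 ∧ u ^ r = 1 := by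
  obtain ⟨τ, g', h1, h2, h3, h4, hfin, ⟨φ⟩⟩ := exists_pair' hp cs hk he hσ Fσ hσx hz
  have hfin' : Finite ↥(fixC τ (z * x * z⁻¹)) := Finite.of_injective (Subgroup.inclusion (Asm.fixC_le _ _))
    (Subgroup.inclusion_injective _)
  obtain ⟨u, hu, hu1, hur⟩ := exists_fixed_level hp cs hk hz he h1 h2 h3 h4 hne
  have h5 : φ ⟨u, hu⟩ ≠ 1 := by
    rw [Ne, map_eq_one_iff φ φ.injective]
    exact fun h => hu1 (congrArg Subtype.val h)
  have h6 : φ ⟨u, hu⟩ ^ r = 1 := by
    rw [← map_pow, map_eq_one_iff φ φ.injective]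
    exact Subtype.ext hur
  obtain ⟨h7, h8⟩ := mem_fixC.1 (φ ⟨u, hu⟩).2
  exact ⟨(φ ⟨u, hu⟩ : ↥(D.group k)), h7, h8, fun h => h5 (Subtype.ext h), congrArg Subtype.val h6⟩

include hp cs in
theorem Sx_one (hk : LocFin k) (r : ℕ) [Fact r.Prime] [CharP k r] {a : Fin l → ℤ}
    (ha : IsRoot cs hp.isCartan a) : a ∈ Sx cs hp.isCartan (ch (K := k) hp) 1 := by
  have := finite_W hp cs
  have C := coordsL (k := k) hp cs hk r
  refine ⟨ha, ?_⟩
  have h1 := (C.coord a ha).chi_mul (one_mem (TT D k)) (one_mem _)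
  rw [mul_one] at h1
  exact (mul_eq_left₀ ((C.coord a ha).chi_ne_zero (one_mem _))).1 h1.symm

include hp cs in
/-- **Field type automorphisms.** -/
theorem exists_relt_fld [IsAlgClosed k] (hk : LocFin k) (hl : Nonempty (Fin l)) {r : ℕ} [Fact r.Prime] [CharP k r]
    {φ : MulAut ↥(D.group k)} {g : (Fin l → ℤ) ≃+ (Fin l → ℤ)} {e : ℕ} (he : 0 < e) (hφ : IsFrob r e φ)
    (Fφ : Fr cs hp.isCartan (TT D k) (XX D l k) φ g) (c : ↥(D.group k))
    [Finite ↥(fixedSubgroup (MulAut.conj c * φ))] :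
    ∃ u, (MulAut.conj c * φ) u = u ∧ u ≠ 1 ∧ u ^ r = 1 := by
  obtain ⟨z, hz⟩ := lang_all hp cs he hφ Fφ 1 c
  rw [map_one, one_mul] at hz
  have hfin : Finite ↥(fixedSubgroup φ) := Finite.of_equiv _ (Good.fieldEquiv hz).symm.toEquiv
  obtain ⟨i⟩ := hl
  obtain ⟨u, h1, -, h3, h4⟩ := exists_relt hp cs hk he hφ Fφ (x := 1) (map_one φ) (z := 1)
    (by rw [mul_one, mul_inv_cancel]; exact one_mem _)
    ⟨sr i, by rw [mul_one, mul_inv_cancel]; exact Sx_one hp cs hk r (isRoot_sr cs hp.isCartan i)⟩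
  refine ⟨z⁻¹ * u * z, ?_, ?_, ?_⟩
  · show c * φ (z⁻¹ * u * z) * c⁻¹ = z⁻¹ * u * z
    rw [map_mul, map_mul, map_inv, h1, hz]; group
  · intro h5
    apply h3
    have h6 : u = z * (z⁻¹ * u * z) * z⁻¹ := by group
    rw [h6, h5]; group
  · have h5 := conj_pow (i := r) (a := z⁻¹) (b := u)
    rw [inv_inv] at h5
    rw [h5, h4]; group

include hp cs in
/-- **The main step.** An automorphism `x` of prime order `p` of `K₀ ≤ Y^σ` fixes an element of order `r` or is
induced by an element `y` of order `p` of `Y^σ` conjugate to a torus element `t` with `Sx t = ∅`. -/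
theorem main [IsAlgClosed k] (hk : LocFin k) (hl : Nonempty (Fin l)) {r p : ℕ} [Fact r.Prime] [CharP k r]
    (hT : ∀ y : ↥(D.group k), y ^ p = 1 → ∃ z : ↥(D.group k), z * y * z⁻¹ ∈ TT D k)
    {σ : MulAut ↥(D.group k)} {g : (Fin l → ℤ) ≃+ (Fin l → ℤ)} {e : ℕ} (he : 0 < e) (hσ : IsFrob r e σ)
    (Fσ : Fr cs hp.isCartan (TT D k) (XX D l k) σ g) [Finite ↥(fixedSubgroup σ)]
    {K₀ : Type v} [Group K₀] (ι : K₀ →* ↥(D.group k)) (hι : Function.Injective ι)
    (hr : ∀ y, σ y = y → y ^ r = 1 → ∃ a, ι a = y)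
    (hfam : ∀ x : MulAut K₀, orderOf x = p →
      (∃ y : ↥(D.group k), y ^ p = 1 ∧ σ y = y ∧ ∀ a, ι (x a) = y * ι a * y⁻¹) ∨
      ∃ (i : ℕ) (c : ↥(D.group k)) (φ : MulAut ↥(D.group k)) (g' : (Fin l → ℤ) ≃+ (Fin l → ℤ)) (e' : ℕ),
        i.Coprime p ∧ 0 < e' ∧ IsFrob r e' φ ∧ Fr cs hp.isCartan (TT D k) (XX D l k) φ g' ∧
        fixedSubgroup (MulAut.conj c * φ) ≤ fixedSubgroup σ ∧ ∀ a, ι ((x ^ i) a) = (MulAut.conj c * φ) (ι a))
    {x : MulAut K₀} (hx : orderOf x = p) (hfix : ∀ s : K₀, x s = s → s ^ r = 1 → s = 1) :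
    ∃ y z : ↥(D.group k), y ^ p = 1 ∧ σ y = y ∧ (∀ a, ι (x a) = y * ι a * y⁻¹) ∧ z * y * z⁻¹ ∈ TT D k ∧
      Sx cs hp.isCartan (ch (K := k) hp) (z * y * z⁻¹) = ∅ := by
  have hcon : ∀ u : ↥(D.group k), σ u = u → u ≠ 1 → u ^ r = 1 → (∀ s : K₀, ι s = u → x s = s) → False := by
    intro u h1 h2 h3 h4
    obtain ⟨s, hs⟩ := hr u h1 h3
    apply h2
    rw [← hs, hfix s (h4 s hs) (hι (by rw [map_pow, hs, h3, map_one])), map_one]
  rcases hfam x hx with ⟨y, hyp, hσy, hy⟩ | ⟨i, c, φ, g', e', hi, he', hφ, Fφ, hle, hy⟩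
  · obtain ⟨z, hz⟩ := hT y hyp
    refine ⟨y, z, hyp, hσy, hy, hz, ?_⟩
    by_contra hne
    obtain ⟨u, h1, h2, h3, h4⟩ := exists_relt hp cs hk he hσ Fσ hσy hz (Set.nonempty_iff_ne_empty.2 hne)
    refine hcon u h1 h3 h4 fun s hs => hι ?_
    rw [hy, hs, ← h2, mul_inv_cancel_right]
  · exfalso
    have hfin : Finite ↥(fixedSubgroup (MulAut.conj c * φ)) :=
      Finite.of_injective (Subgroup.inclusion hle) (Subgroup.inclusion_injective _)
    obtain ⟨u, h1, h2, h3⟩ := exists_relt_fld hp cs hk hl he' hφ Fφ c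
    refine hcon u (hle h1) h2 h3 fun s hs => ?_
    have h4 : (x ^ i) s = s := hι (by rw [hy, hs, h1])
    have h5 : x ^ p = 1 := by rw [← hx]; exact pow_orderOf_eq_one x
    have h6 : s ∈ fixedSubgroup (x ^ i) := h4
    rw [Glue.fixedSubgroup_pow h5 hi] at h6
    exact h6

end Cfsg.Agent.H522.FldElt
end

-- part: H522/FldUntw
section
/-!
# `OddFix r S` for the exceptional Chevalley groups of characteristic `r` (helper522)

* `pow_mem_range` : a torus element of `D.group k` with characters in `F` has its `d`-th power in `D.group F`;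
* `nonempty_E6` : an element of order dividing 3 of the torus of `E6` centralises a root group;
* `oddFix_of_fam`, `oddFix_exceptional`.
-/

set_option autoImplicit false
set_option linter.unusedSectionVars false

namespace Cfsg.Agent.H522.FldUntw

open CoxeterSystem Subgroup Cfsg Cfsg.Lie Cfsg.Lie.ChevalleyDatum
open Cfsg.Agent.ChevalleyStructure Cfsg.Agent.ChevalleyStructure.Elts Cfsg.Agent.ChevalleyStructure.CoxeterGeom
  Cfsg.Agent.ChevalleyStructure.CoxeterGeomTypes Cfsg.Agent.ChevalleyStructure.NPerm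
open Cfsg.Agent.Tits.Roots Cfsg.Agent.Tits.Core Cfsg.Agent.Nodes.BNOf
open Cfsg.Agent.CpAut.RgdUntw (SymTwo fld_xc symTwo_G2 symTwo_F4 symTwo_E6 symTwo_E7 symTwo_E8)
open Cfsg.Agent.Nodes.RGDChev Cfsg.Agent.KFacts.RgdChevCoord Cfsg.Agent.GpExc.Field
open Cfsg.Agent.BpExc Cfsg.Agent.BpExc.TorCent Cfsg.Agent.BpExc.TowChev Cfsg.Agent.BpExc.FamUntw
  Cfsg.Agent.BpExc.FamInst Cfsg.Agent.BpExc.LangFr Cfsg.Agent.BpExc.FamField Cfsg.Agent.BpExc.FamExt
  Cfsg.Agent.BpExc.RowsUntw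

universe u

/-! ### general lemmas -/

theorem pow_mem_of_split {Y : Type*} [Group Y] {N : Subgroup Y} {a t : Y} (ha : a ∈ N)
    (hn : ∀ b ∈ N, t * b * t⁻¹ ∈ N) {m : ℕ} (hm : t ^ m ∈ N) : (a * t) ^ m ∈ N := by
  have hn' : ∀ j : ℕ, ∀ b ∈ N, t ^ j * b * (t ^ j)⁻¹ ∈ N := by
    intro j
    induction j with
    | zero => intro b hb; simpa using hb
    | succ j ih =>
      intro b hb
      have h1 := hn _ (ih b hb)
      have e : t ^ (j + 1) * b * (t ^ (j + 1))⁻¹ = t * (t ^ j * b * (t ^ j)⁻¹) * t⁻¹ := by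
        rw [pow_succ']; group
      rwa [e]
  have key : ∀ j : ℕ, ∃ b ∈ N, (a * t) ^ j = b * t ^ j := by
    intro j
    induction j with
    | zero => exact ⟨1, one_mem _, by simp⟩
    | succ j ih =>
      obtain ⟨b, hb, e⟩ := ih
      refine ⟨b * (t ^ j * a * (t ^ j)⁻¹), mul_mem hb (hn' j a ha), ?_⟩
      rw [pow_succ, e, pow_succ]
      group
  obtain ⟨b, hb, e⟩ := key m
  rw [e]
  exact mul_mem hb hm

/-- `y ^ p = 1`, `y ^ m ∈ N`, `p`, `m` coprime -/
theorem mem_of_pow_mem {Y : Type*} [Group Y] {N : Subgroup Y} {y : Y} {p m : ℕ} (hy : y ^ p = 1) (hm : y ^ m ∈ N)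
    (hpm : p.Coprime m) : y ∈ N := by
  have h1 : (y ^ m) ^ ((m : ZMod p)⁻¹).val ∈ N := pow_mem hm _
  have h2 := Nat.gcd_eq_gcd_ab p m
  rw [hpm.gcd_eq_one] at h2
  have h3 : y = (y ^ p) ^ (Nat.gcdA p m) * (y ^ m) ^ (Nat.gcdB p m) := by
    rw [← zpow_natCast, ← zpow_mul, ← zpow_natCast y m, ← zpow_mul, ← zpow_add, ← h2, Nat.cast_one, zpow_one]
  rw [h3, hy, one_zpow, one_mul]
  exact zpow_mem hm _

theorem cube {k : Type*} [Field k] {a b c : k} (ha : a ^ 3 = 1) (hb : b ^ 3 = 1) (hc : c ^ 3 = 1) (ha1 : a ≠ 1)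
    (hb1 : b ≠ 1) (hc1 : c ≠ 1) (hab : a * b ≠ 1) (hbc : b * c ≠ 1) : a * b * c = 1 := by
  have hq : ∀ x : k, x ^ 3 = 1 → x ≠ 1 → x ^ 2 + x + 1 = 0 := by
    intro x hx hx1
    have h1 : (x - 1) * (x ^ 2 + x + 1) = 0 := by linear_combination hx
    exact (mul_eq_zero.1 h1).resolve_left (sub_ne_zero.2 hx1)
  have hE : ∀ x y : k, x ^ 3 = 1 → y ^ 3 = 1 → x ≠ 1 → y ≠ 1 → x * y ≠ 1 → x = y := by
    intro x y hx hy hx1 hy1 hxy
    have h1 := hq x hx hx1
    have h2 := hq y hy hy1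
    have h3 : (x - y) * (x + y + 1) = 0 := by linear_combination h1 - h2
    rcases mul_eq_zero.1 h3 with h4 | h4
    · exact sub_eq_zero.1 h4
    · exfalso
      apply hxy
      have h5 : y = x ^ 2 := by linear_combination h4 - h1
      rw [h5]
      linear_combination hx
  have h1 := hE a b ha hb ha1 hb1 hab
  have h2 := hE b c hb hc hb1 hc1 hbc
  rw [h1, ← h2]
  linear_combination hb

/-- the values of an additive character -/
theorem phi_eq {l : ℕ} {k : Type*} [Field k] {φ : (Fin l → ℤ) → k} (h0 : φ 0 = 1)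
    (hadd : ∀ x y, φ (x + y) = φ x * φ y) (x : Fin l → ℤ) : φ x = ∏ i, φ (sr i) ^ x i := by
  have hne : ∀ x, φ x ≠ 0 := by
    intro x h
    have h1 := hadd x (-x)
    rw [add_neg_cancel, h0, h, zero_mul] at h1
    exact one_ne_zero h1
  have hneg : ∀ x, φ (-x) = (φ x)⁻¹ := by
    intro x
    have h1 := hadd x (-x)
    rw [add_neg_cancel, h0] at h1
    exact (inv_eq_of_mul_eq_one_right h1.symm).symm
  have hn : ∀ (n : ℕ) (x : Fin l → ℤ), φ (n • x) = φ x ^ n := by
    intro n x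
    induction n with
    | zero => rw [zero_smul, pow_zero, h0]
    | succ n ih => rw [succ_nsmul, hadd, ih, pow_succ]
  have hz : ∀ (n : ℤ) (x : Fin l → ℤ), φ (n • x) = φ x ^ n := by
    intro n x
    obtain ⟨m, rfl | rfl⟩ := n.eq_nat_or_neg
    · rw [natCast_zsmul, hn, zpow_natCast]
    · rw [neg_smul, natCast_zsmul, hneg, hn, zpow_neg, zpow_natCast]
  have hS : ∀ S : Finset (Fin l), φ (∑ i ∈ S, x i • sr i) = ∏ i ∈ S, φ (sr i) ^ x i := by
    classical
    intro S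
    induction S using Finset.induction_on with
    | empty => rw [Finset.sum_empty, Finset.prod_empty, h0]
    | insert i S hi ih => rw [Finset.sum_insert hi, Finset.prod_insert hi, hadd, hz, ih]
  have hx : x = ∑ i, x i • (sr i : Fin l → ℤ) := by
    funext j
    rw [Finset.sum_apply, Finset.sum_eq_single j]
    · rw [Pi.smul_apply, sr_self, smul_eq_mul, mul_one]
    · intro i _ hij
      rw [Pi.smul_apply, sr_ne hij.symm, smul_zero]
    · intro h
      exact absurd (Finset.mem_univ j) h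
  conv_lhs => rw [hx]
  exact hS _

/-! ### the torus -/

section Tor

variable {D : ChevalleyDatum} {l : ℕ} {M : CoxeterMatrix (Fin l)} (hp : IsType D l M) {k : Type u} [Field k]

include hp in
theorem eq_one_of_pow {r : ℕ} [Fact r.Prime] [CharP k r]
    {t : GL D.Idx k} (ht : t ∈ D.diagonalSubgroup k) {j : ℕ} (h : t ^ r ^ j = 1) : t = 1 := by
  obtain ⟨χ, hχ⟩ := HMatDiagAll.mem_torus.1 (HMatDiagAll.diagonalSubgroup_le_torus hp.inList ht)
  apply Units.ext
  have h1 := congrArg (fun g : GL D.Idx k => (g : Matrix D.Idx D.Idx k)) h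
  simp only [Units.val_pow_eq_pow_val, hχ, Matrix.diagonal_pow, Units.val_one] at h1
  rw [hχ, Units.val_one, ← Matrix.diagonal_one]
  congr 1
  funext i
  rw [← Matrix.diagonal_one] at h1
  have h2 := congrFun (Matrix.diagonal_injective h1) i
  rw [Pi.pow_apply] at h2
  apply sub_eq_zero.1
  refine pow_eq_zero_iff (pow_pos (Fact.out : r.Prime).pos j).ne' |>.1 ?_
  rw [sub_pow_char_pow, h2, one_pow, sub_self]

include hp in
theorem exists_coprime {r : ℕ} [Fact r.Prime] [CharP k r]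
    {t : ↥(D.group k)} (ht : t ∈ TT D k) (hf : IsOfFinOrder t) : ∃ m : ℕ, m.Coprime r ∧ t ^ m = 1 := by
  have hr : r.Prime := Fact.out
  obtain ⟨j, m, hm, e⟩ := Nat.exists_eq_pow_mul_and_not_dvd (orderOf_pos_iff.2 hf).ne' r hr.ne_one
  refine ⟨m, ((Nat.Prime.coprime_iff_not_dvd hr).2 hm).symm, ?_⟩
  have h1 : (t ^ m) ^ r ^ j = 1 := by
    rw [← pow_mul, mul_comm, ← e]
    exact pow_orderOf_eq_one t
  apply Subtype.ext
  refine eq_one_of_pow hp (t := ((t ^ m : ↥(D.group k)) : GL D.Idx k)) ?_ (j := j) (congrArg Subtype.val h1)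
  exact Subgroup.mem_subgroupOf.1 (pow_mem ht m)

variable {W : Type*} [Group W] (cs : CoxeterSystem M W)

include hp cs in
/-- A torus element with trivial characters is trivial. -/
theorem eq_one_of_ch (hk : LocFin k) (r : ℕ) [Fact r.Prime] [CharP k r] (hZ : center ↥(D.group k) = ⊥)
    {z : ↥(D.group k)} (hT : z ∈ TT D k) (hch : ∀ v, IsRoot cs hp.isCartan v → ch hp v z = 1) : z = 1 := by
  have hW := finite_W hp cs
  have C := coordsL (k := k) hp cs hk r
  have hcent : z ∈ center ↥(D.group k) := by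
    rw [mem_center_iff]
    intro y
    have h1 : RGD.Sup (XX D l k) {x | IsRoot cs hp.isCartan x} ≤ centralizer ({z} : Set ↥(D.group k)) := by
      refine RGD.Sup_le fun v hv w hw => ?_
      obtain ⟨a, rfl⟩ := ((C.coord v hv).mem w).1 hw
      rw [mem_centralizer_singleton_iff]
      have h2 := (C.coord v hv).act z hT a
      rw [hch v hv, one_mul, mul_inv_eq_iff_eq_mul] at h2
      exact h2.symm
    have h2 : y ∈ RGD.Sup (XX D l k) {x | IsRoot cs hp.isCartan x} := by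
      have h3 : RGD.Sup (XX D l k) {x | IsRoot cs hp.isCartan x} = ⊤ := G1_eq_top hp cs
      rw [h3]
      exact mem_top y
    exact mem_centralizer_singleton_iff.1 (h1 h2)
  rwa [hZ, mem_bot] at hcent

include hp in
theorem ch_pow {v : Fin l → ℤ} (hk : LocFin k) (r : ℕ) [Fact r.Prime] [CharP k r]
    (hv : IsRoot cs hp.isCartan v) {t : ↥(D.group k)} (ht : t ∈ TT D k) (m : ℕ) :
    ch hp v (t ^ m) = ch hp v t ^ m := by
  have hW := finite_W hp cs
  have C := coordsL (k := k) hp cs hk r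
  induction m with
  | zero => 
    rw [pow_zero, pow_zero]
    exact (FldElt.Sx_one hp cs hk r hv).2
  | succ m ih => rw [pow_succ, (C.coord v hv).chi_mul (pow_mem ht m) ht, ih, pow_succ]

variable {F : Type u} [Field F] (f : F →+* k)

include hp cs in
/-- **Torus elements with characters in `F`.** -/
theorem pow_mem_range {d : ℕ} {B : Fin l → Fin l → ℤ} (hB : InvC D l d B) (hd : d ≠ 0) (hk : LocFin k) (r : ℕ)
    [Fact r.Prime] [CharP k r] (hZ : center ↥(D.group k) = ⊥) {t : ↥(D.group k)} (ht : t ∈ TT D k)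
    (hc : ∀ i, ∃ c : F, ch hp (sr i) t = f c) : ∃ g : ↥(D.group F), emb hp.inList f g = t ^ d := by
  have hW := finite_W hp cs
  have C := coordsL (k := k) hp cs hk r
  choose c hc using hc
  have hc0 : ∀ i, c i ≠ 0 := by
    intro i h
    have h1 := (C.coord _ (isRoot_sr cs hp.isCartan i)).chi_ne_zero ht
    rw [hc, h, map_zero] at h1
    exact h1 rfl
  obtain ⟨a, ha0, ha⟩ := exists_sol (D := D) hB (fun i => c i ^ d) (fun i => pow_ne_zero _ (hc0 i))
    (fun i => ⟨c i, rfl⟩) hd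
  obtain ⟨g, hgT, hg⟩ := exists_tor hp a ha0 Finset.univ
  refine ⟨g, ?_⟩
  have hgT' : emb hp.inList f g ∈ TT D k := emb_T hp f ⟨g, hgT, rfl⟩
  have h1 : ∀ s, s < D.nroots → ch hp (vec D l s) (emb hp.inList f g) = f (∏ i, (c i ^ d) ^ vec D l s i) := by
    intro s hs
    apply ch_eq hp hs hgT'
    have h2 := congrArg (emb hp.inList f) (hg s hs 1)
    rw [map_mul, map_mul, map_inv, FamExt.emb_xc hp f hs, FamExt.emb_xc hp f hs, map_one, mul_one, ha] at h2
    exact h2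
  obtain ⟨φ, h0, hadd, hφ⟩ := chAddL (k := k) hp cs hk r t ht
  have h2 : ∀ v, IsRoot cs hp.isCartan v → ch hp v (emb hp.inList f g) = ch hp v (t ^ d) := by
    intro v hv
    rw [ch_pow hp cs hk r hv ht, hφ v hv, phi_eq h0 hadd]
    obtain ⟨s, hs, rfl⟩ := (isRoot_iff hp cs v).1 hv
    rw [h1 s hs, map_prod, ← Finset.prod_pow]
    refine Finset.prod_congr rfl fun i _ => ?_
    rw [← hφ _ (isRoot_sr cs hp.isCartan i), hc, map_zpow₀, map_pow, ← zpow_natCast, ← zpow_mul, ← zpow_natCast,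
      ← zpow_mul, mul_comm]
  have h3 : (emb hp.inList f g)⁻¹ * t ^ d = 1 := by
    refine eq_one_of_ch hp cs hk r hZ (mul_mem (inv_mem hgT') (pow_mem ht d)) fun v hv => ?_
    have h4 := (C.coord v hv).chi_mul hgT' (mul_mem (inv_mem hgT') (pow_mem ht d))
    rw [mul_inv_cancel_left, ← h2 v hv] at h4
    exact (mul_eq_left₀ ((C.coord v hv).chi_ne_zero hgT')).1 h4.symm
  exact inv_mul_eq_one.1 h3

end Tor

/-! ### the main theorem -/

section Main

variable {D : ChevalleyDatum} {l : ℕ} {M : CoxeterMatrix (Fin l)} (hp : IsType D l M)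

theorem center_eq_bot {G : Type*} [Group G] (h1 : IsSimpleGroup G) (h2 : ¬ IsMulCommutative G) : center G = ⊥ := by
  refine KFacts.RgdLieCharP.center_eq_bot ?_
  by_contra hcon
  push Not at hcon
  exact h2 ⟨⟨hcon⟩⟩

include hp in
theorem oddFix_of_fam {r : ℕ} [Fact r.Prime] {F : Type} [Field F] [Fintype F] [CharP F r]
    {d : ℕ} {B : Fin l → Fin l → ℤ} (hB : InvC D l d B) (hd : d ≠ 0) (hM : SymTwo M) (hl : Nonempty (Fin l))
    (hk1 : IsSimpleGroup ↥(D.group (AlgebraicClosure (ZMod r))) ∧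
      ¬ IsMulCommutative ↥(D.group (AlgebraicClosure (ZMod r))))
    (hF1 : IsSimpleGroup ↥(D.group F) ∧ ¬ IsMulCommutative ↥(D.group F))
    (hend : ∀ p : ℕ, p.Prime → p ≠ 2 → ¬ p.Coprime d → ∀ t ∈ TT D (AlgebraicClosure (ZMod r)), t ^ p = 1 →
      (Sx M.toCoxeterSystem hp.isCartan (ch (K := AlgebraicClosure (ZMod r)) hp) t).Nonempty) :
    H523.OddFix r ↥(D.group F) := by
  intro p hpp hp2 hpr x hx hfix
  have hpf : Fact p.Prime := ⟨hpp⟩
  obtain ⟨f⟩ := exists_emb r F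
  obtain ⟨n, hn0, hn⟩ := exists_card (F := F) r
  have hk : LocFin (AlgebraicClosure (ZMod r)) := locFin_of_isAlgebraic r _
  have hfin := finite_phi (D := D) (k := AlgebraicClosure (ZMod r)) (r := r) hn0
  have hT : ∀ y : ↥(D.group (AlgebraicClosure (ZMod r))), y ^ p = 1 →
      ∃ z : ↥(D.group (AlgebraicClosure (ZMod r))), z * y * z⁻¹ ∈ TT D (AlgebraicClosure (ZMod r)) := by
    intro y hy
    obtain ⟨z, hz⟩ := TorAll.exists_toral' hp r hpp hpr hy
    exact ⟨z⁻¹, by rwa [inv_inv]⟩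
  have hfr := fun g => phi_frob (D := D) (k := AlgebraicClosure (ZMod r)) r n g
  have hq : Fintype.card F = r ^ n := by rw [← hn, Nat.card_eq_fintype_card]
  let φ : AlgebraicClosure (ZMod r) →+* AlgebraicClosure (ZMod r) :=
    ((frb (AlgebraicClosure (ZMod r)) r n : AlgebraicClosure (ZMod r) ≃+* AlgebraicClosure (ZMod r)) :
      AlgebraicClosure (ZMod r) →+* AlgebraicClosure (ZMod r))
  have hφ : ∀ t, φ t = t ^ Fintype.card F := by
    intro t
    rw [hq]
    exact frb_apply _ r n t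
  have hσφ : ∀ y : ↥(D.group (AlgebraicClosure (ZMod r))),
      ((phi D (AlgebraicClosure (ZMod r)) r n y : ↥(D.group (AlgebraicClosure (ZMod r)))) :
        GL D.Idx (AlgebraicClosure (ZMod r))) = glMap D φ (y : GL D.Idx (AlgebraicClosure (ZMod r))) := by
    intro y
    apply Units.ext
    rfl
  have hfixe : ∀ a, phi D (AlgebraicClosure (ZMod r)) r n (emb hp.inList f a) = emb hp.inList f a :=
    fun a => Emb.emb_fix hp.inList hφ hσφ a
  -- the elements of `Y ^ σ`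
  have hsplit : ∀ y : ↥(D.group (AlgebraicClosure (ZMod r))), phi D (AlgebraicClosure (ZMod r)) r n y = y →
      ∃ (a : ↥(D.group F)) (t : ↥(D.group (AlgebraicClosure (ZMod r)))), t ∈ TT D (AlgebraicClosure (ZMod r)) ∧
        y = emb hp.inList f a * t ∧ phi D (AlgebraicClosure (ZMod r)) r n t = t := by
    intro y hy
    have hy' : glMap D φ (y : GL D.Idx (AlgebraicClosure (ZMod r))) = y := by rw [← hσφ, hy]
    obtain ⟨a, ha, t, ht, e⟩ := EmbSplit.untw_split hp.inList (Emb.fix_iff_range hφ) y.2 hy'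
    have hta : t ∈ D.group (AlgebraicClosure (ZMod r)) := by
      have h1 : t = ((emb hp.inList f ⟨a, ha⟩ : ↥(D.group (AlgebraicClosure (ZMod r)))) :
          GL D.Idx (AlgebraicClosure (ZMod r)))⁻¹ * y := by
        rw [coe_emb]
        exact eq_inv_mul_of_mul_eq e.symm
      rw [h1]
      exact mul_mem (inv_mem (SetLike.coe_mem _)) y.2
    have e' : y = emb hp.inList f ⟨a, ha⟩ * ⟨t, hta⟩ := Subtype.ext e
    refine ⟨⟨a, ha⟩, ⟨t, hta⟩, Subgroup.mem_subgroupOf.2 ht, e', ?_⟩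
    have h1 := hy
    rw [e', map_mul, hfixe] at h1
    exact mul_left_cancel h1
  have hconj : ∀ t, phi D (AlgebraicClosure (ZMod r)) r n t = t → ∀ b ∈ (emb hp.inList f).range,
      t * b * t⁻¹ ∈ (emb hp.inList f).range :=
    fun t hσt b hb => Emb.conj_mem_range hp.inList (f := f) hφ hσφ hσt hb
  have hr : ∀ y : ↥(D.group (AlgebraicClosure (ZMod r))), phi D (AlgebraicClosure (ZMod r)) r n y = y →
      y ^ r = 1 → ∃ a, emb hp.inList f a = y := by
    intro y hy hyr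
    obtain ⟨a, t, ht, e, hσt⟩ := hsplit y hy
    have hft : IsOfFinOrder t := by
      have h1 : IsOfFinOrder (⟨t, hσt⟩ : ↥(fixedSubgroup (phi D (AlgebraicClosure (ZMod r)) r n))) :=
        (isOfFinOrder_of_finite _ : _)
      exact ((fixedSubgroup (phi D (AlgebraicClosure (ZMod r)) r n)).subtype.isOfFinOrder h1 :)
    obtain ⟨m, hm, hm1⟩ := exists_coprime hp ht hft
    refine mem_of_pow_mem (N := (emb hp.inList f).range) hyr (m := m) ?_ hm.symm
    rw [e]
    exact pow_mem_of_split (N := (emb hp.inList f).range) ⟨_, rfl⟩ (hconj t hσt) (by rw [hm1]; exact one_mem _)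
  obtain ⟨y, z, hyp, hσy, hxy, hz, hSx⟩ := FldElt.main hp M.toCoxeterSystem hk hl hT hn0 (phi_isFrob r n)
    (phi_fr hp M.toCoxeterSystem r hk n) (emb hp.inList f) (emb_injective hp.inList f) hr
    (fun x hx => fam hp hk f r M.toCoxeterSystem hB hd hM hk1 hF1 hpp hp2 hn hfr x hx) hx hfix
  by_cases hpd : p.Coprime d
  · -- `y ∈ D.group F`
    obtain ⟨a, t, ht, e, hσt⟩ := hsplit y hσy
    have hW := finite_W hp M.toCoxeterSystem
    have C := coordsL (k := AlgebraicClosure (ZMod r)) hp M.toCoxeterSystem hk r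
    have hch : ∀ i, ∃ c : F, ch hp (sr i) t = f c := by
      intro i
      have hri := isRoot_sr M.toCoxeterSystem hp.isCartan i
      have h1 := (C.coord _ hri).act t ht 1
      have h2 := congrArg (phi D (AlgebraicClosure (ZMod r)) r n) h1
      have h3 : ∀ s, phi D (AlgebraicClosure (ZMod r)) r n (xc hp (sr i) s) =
          xc hp (sr i) (frb (AlgebraicClosure (ZMod r)) r n s) := by
        intro s
        rw [← vec_simple hp i]
        exact fld_xc hp _ (simple_lt hp.inList (lt_rank hp i)) s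
      rw [map_mul, map_mul, map_inv, hσt, h3, h3, map_one, h1] at h2
      have h4 := (C.coord _ hri).inj h2
      rw [mul_one] at h4
      obtain ⟨c, hc⟩ := (Emb.fix_iff_range (f := f) hφ (ch hp (sr i) t)).1 h4.symm
      exact ⟨c, hc.symm⟩
    obtain ⟨g, hg⟩ := pow_mem_range hp M.toCoxeterSystem f hB hd hk r (center_eq_bot hk1.1 hk1.2) ht hch
    have h1 : y ∈ (emb hp.inList f).range := by
      refine mem_of_pow_mem hyp (m := d) ?_ hpd
      rw [e]
      exact pow_mem_of_split (N := (emb hp.inList f).range) ⟨_, rfl⟩ (hconj t hσt) ⟨g, hg⟩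
    obtain ⟨b, hb⟩ := h1
    refine ⟨b, MulEquiv.ext fun s => ?_⟩
    apply emb_injective hp.inList f
    rw [hxy, MulAut.conj_apply, map_mul, map_mul, map_inv, hb]
  · exfalso
    have h1 : (z * y * z⁻¹) ^ p = 1 := by rw [conj_pow, hyp]; group
    have h2 := hend p hpp hp2 hpd _ hz h1
    rw [hSx] at h2
    exact Set.not_nonempty_empty h2

end Main

/-! ### E6, `p = 3` -/

section E6

variable {k : Type u} [Field k] {W : Type*} [Group W]

/-- **An element of order 3 of the torus of `E6` centralises a root group.** -/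
theorem nonempty_E6 (hk : LocFin k) (r : ℕ) [Fact r.Prime] [CharP k r] (cs : CoxeterSystem CoxeterMatrix.E₆ W)
    {t : ↥(chevE6.group k)} (ht : t ∈ TT chevE6 k) (h3 : t ^ 3 = 1) :
    (Sx cs e6T.isCartan (ch (K := k) e6T) t).Nonempty := by
  have hW := finite_W e6T cs
  obtain ⟨φ, h0, hadd, hφ⟩ := chAddL (k := k) e6T cs hk r t ht
  have hr : ∀ v, (∃ s < chevE6.nroots, vec chevE6 6 s = v) → IsRoot cs e6T.isCartan v :=
    fun v hv => (isRoot_iff e6T cs v).2 hv
  have hr0 : IsRoot cs e6T.isCartan (sr 0) := isRoot_sr cs _ 0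
  have hr2 : IsRoot cs e6T.isCartan (sr 2) := isRoot_sr cs _ 2
  have hr3 : IsRoot cs e6T.isCartan (sr 3) := isRoot_sr cs _ 3
  have hr02 : IsRoot cs e6T.isCartan (sr 0 + sr 2) := hr _ (by decide +kernel)
  have hr23 : IsRoot cs e6T.isCartan (sr 2 + sr 3) := hr _ (by decide +kernel)
  have hr023 : IsRoot cs e6T.isCartan (sr 0 + sr 2 + sr 3) := hr _ (by decide +kernel)
  have hcube : ∀ v, IsRoot cs e6T.isCartan v → φ v ^ 3 = 1 := by
    intro v hv
    rw [← hφ v hv, ← ch_pow e6T cs hk r hv ht, h3]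
    exact (FldElt.Sx_one e6T cs hk r hv).2
  by_contra hne
  rw [Set.not_nonempty_iff_eq_empty] at hne
  have hn1 : ∀ v, IsRoot cs e6T.isCartan v → φ v ≠ 1 := by
    intro v hv h
    have h1 : v ∈ Sx cs e6T.isCartan (ch (K := k) e6T) t := ⟨hv, by rw [hφ v hv, h]⟩
    rw [hne] at h1
    exact h1
  refine hn1 _ hr023 ?_
  rw [hadd, hadd]
  refine cube (hcube _ hr0) (hcube _ hr2) (hcube _ hr3) (hn1 _ hr0) (hn1 _ hr2) (hn1 _ hr3) ?_ ?_
  · rw [← hadd]; exact hn1 _ hr02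
  · rw [← hadd]; exact hn1 _ hr23

end E6

/-! ### the rows -/

/-- **The exceptional Chevalley groups.** -/
theorem oddFix_exceptional {r : ℕ} (hr : r.Prime) {S : Type u} [Group S] (h : IsExceptionalChevChar r S) :
    H523.OddFix r S := by
  have : Fact r.Prime := ⟨hr⟩
  have hk : LocFin (AlgebraicClosure (ZMod r)) := locFin_of_isAlgebraic r _
  have hcop : ∀ {p d : ℕ}, p.Prime → ¬ p.Coprime d → p ∣ d := fun hp h => by
    by_contra hcon
    exact h ((Nat.Prime.coprime_iff_not_dvd hp).2 hcon)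
  obtain ⟨F, _, _, _, h | h | h | h | h⟩ := h
  · obtain ⟨h3, ⟨e⟩⟩ := h
    refine H523.OddFix.congr e.symm (oddFix_of_fam g2T inv_G2 one_ne_zero symTwo_G2 ⟨0⟩
      (S1055.result (exists_ne_algClosed _)) (S1055.result (exists_ne h3)) fun p hp hp2 hpd => ?_)
    exact absurd (Nat.coprime_one_right p) hpd
  · obtain ⟨e⟩ := h
    refine H523.OddFix.congr e.symm (oddFix_of_fam f4T inv_F4 one_ne_zero symTwo_F4 ⟨0⟩
      (S1054.result chevF4 (by simp)) (S1054.result chevF4 (by simp)) fun p hp hp2 hpd => ?_)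
    exact absurd (Nat.coprime_one_right p) hpd
  · obtain ⟨e⟩ := h
    refine H523.OddFix.congr e.symm (oddFix_of_fam e6T inv_E6 three_ne_zero symTwo_E6 ⟨0⟩
      (S1054.result chevE6 (by simp)) (S1054.result chevE6 (by simp)) fun p hp hp2 hpd t ht htp => ?_)
    have h1 : p = 3 := (Nat.prime_dvd_prime_iff_eq hp Nat.prime_three).1 (hcop hp hpd)
    rw [h1] at htp
    exact nonempty_E6 hk r _ ht htp
  · obtain ⟨e⟩ := h
    refine H523.OddFix.congr e.symm (oddFix_of_fam e7T inv_E7 two_ne_zero symTwo_E7 ⟨0⟩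
      (S1054.result chevE7 (by simp)) (S1054.result chevE7 (by simp)) fun p hp hp2 hpd => ?_)
    exact absurd ((Nat.prime_dvd_prime_iff_eq hp Nat.prime_two).1 (hcop hp hpd)) hp2
  · obtain ⟨e⟩ := h
    refine H523.OddFix.congr e.symm (oddFix_of_fam e8T inv_E8 one_ne_zero symTwo_E8 ⟨0⟩
      (S1054.result chevE8 (by simp)) (S1054.result chevE8 (by simp)) fun p hp hp2 hpd => ?_)
    exact absurd (Nat.coprime_one_right p) hpd

end Cfsg.Agent.H522.FldUntw
end
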